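import Mathlib
import Cfsg.Agent.Lib.Helper5.SpecBC.Core1

/-!
Transfer of forms: for an isometry `x` of odd order `m` of a bilinear form `B`, the form
`(a, b) ↦ B ((x - x⁻¹) a) b` on `[V, x]` has the opposite symmetry type, is nondegenerate and is
preserved by every isometry commuting with `x`.
-/

set_option autoImplicit false

namespace Cfsg.Agent.Lib.Helper5.PGBC

open Module Cfsg.Agent.Lib.Helper5.SpecBC

variable {F : Type*} [Field F] {V : Type*} [AddCommGroup V] [Module F V]

/-- `x` preserves the bilinear form `B` -/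
def Pres (B : LinearMap.BilinForm F V) (x : Module.End F V) : Prop :=
  ∀ a b, B (x a) (x b) = B a b

theorem Pres.one (B : LinearMap.BilinForm F V) : Pres B 1 := fun _ _ => rfl

theorem Pres.mul {B : LinearMap.BilinForm F V} {x y : Module.End F V} (hx : Pres B x)
    (hy : Pres B y) : Pres B (x * y) := by
  intro a b
  rw [Module.End.mul_apply, Module.End.mul_apply, hx, hy]

theorem Pres.pow {B : LinearMap.BilinForm F V} {x : Module.End F V} (hx : Pres B x) (j : ℕ) :
    Pres B (x ^ j) := by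
  induction j with
  | zero => rw [pow_zero]; exact Pres.one B
  | succ k ih => rw [pow_succ]; exact ih.mul hx

theorem pow_pred_mul {x : Module.End F V} {m : ℕ} (hm : x ^ m = 1) (hm0 : 0 < m) :
    x * x ^ (m - 1) = 1 := by
  rw [← pow_succ', Nat.sub_add_cancel hm0, hm]

theorem pow_pred_mul' {x : Module.End F V} {m : ℕ} (hm : x ^ m = 1) (hm0 : 0 < m) :
    x ^ (m - 1) * x = 1 := by
  rw [← pow_succ, Nat.sub_add_cancel hm0, hm]

theorem Pres.adj {B : LinearMap.BilinForm F V} {x : Module.End F V} (hx : Pres B x) {m : ℕ}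
    (hm : x ^ m = 1) (hm0 : 0 < m) (a b : V) : B (x a) b = B a ((x ^ (m - 1)) b) := by
  have h1 : b = x ((x ^ (m - 1)) b) := by
    rw [← Module.End.mul_apply, pow_pred_mul hm hm0, Module.End.one_apply]
  conv_lhs => rw [h1]
  rw [hx]

theorem Pres.adj' {B : LinearMap.BilinForm F V} {x : Module.End F V} (hx : Pres B x) {m : ℕ}
    (hm : x ^ m = 1) (hm0 : 0 < m) (a b : V) : B ((x ^ (m - 1)) a) b = B a (x b) := by
  have h1 : a = x ((x ^ (m - 1)) a) := by
    rw [← Module.End.mul_apply, pow_pred_mul hm hm0, Module.End.one_apply]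
  conv_rhs => rw [h1]
  rw [hx]

theorem bil_fix_mov {B : LinearMap.BilinForm F V} {x : Module.End F V} (hx : Pres B x) {a b : V}
    (ha : a ∈ fixS x) (hb : b ∈ movS x) : B a b = 0 := by
  rw [mem_fixS] at ha
  obtain ⟨c, rfl⟩ := mem_movS.1 hb
  rw [map_sub]
  nth_rewrite 1 [← ha]
  rw [hx, sub_self]

theorem bil_mov_fix {B : LinearMap.BilinForm F V} {x : Module.End F V} (hx : Pres B x) {a b : V}
    (ha : a ∈ fixS x) (hb : b ∈ movS x) : B b a = 0 := by
  rw [mem_fixS] at ha
  obtain ⟨c, rfl⟩ := mem_movS.1 hb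
  rw [map_sub, LinearMap.sub_apply]
  nth_rewrite 1 [← ha]
  rw [hx, sub_self]

/-- two maps agreeing on `C_V(x)` and on `[V, x]` are equal -/
theorem ext_fix_mov [FiniteDimensional F V] {x : Module.End F V} {m : ℕ} (hm : x ^ m = 1)
    (hmF : (m : F) ≠ 0) {f g : Module.End F V} (h₁ : ∀ a ∈ fixS x, f a = g a)
    (h₂ : ∀ a ∈ movS x, f a = g a) : f = g := by
  have hc := isCompl_fix_mov hm hmF
  apply LinearMap.ext
  intro z
  have hz : z ∈ fixS x ⊔ movS x := by rw [hc.sup_eq_top]; trivial
  obtain ⟨a, ha, b, hb, rfl⟩ := Submodule.mem_sup.1 hz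
  rw [map_add, map_add, h₁ a ha, h₂ b hb]

/-- nondegeneracy of the restriction to `[V, x]` -/
theorem nondeg_mov [FiniteDimensional F V] {B : LinearMap.BilinForm F V} {x : Module.End F V}
    (hx : Pres B x) {m : ℕ} (hm : x ^ m = 1) (hmF : (m : F) ≠ 0)
    (hnd : ∀ a, (∀ b, B a b = 0) → a = 0) {a : V} (ha : a ∈ movS x)
    (h : ∀ b ∈ movS x, B a b = 0) : a = 0 := by
  have hc := isCompl_fix_mov hm hmF
  apply hnd
  intro z
  have hz : z ∈ fixS x ⊔ movS x := by rw [hc.sup_eq_top]; trivial
  obtain ⟨c, hc', b, hb, rfl⟩ := Submodule.mem_sup.1 hz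
  rw [map_add, bil_mov_fix hx hc' ha, h b hb, add_zero]

/-- nondegeneracy of the restriction to `C_V(x)` -/
theorem nondeg_fix [FiniteDimensional F V] {B : LinearMap.BilinForm F V} {x : Module.End F V}
    (hx : Pres B x) {m : ℕ} (hm : x ^ m = 1) (hmF : (m : F) ≠ 0)
    (hnd : ∀ a, (∀ b, B a b = 0) → a = 0) {a : V} (ha : a ∈ fixS x)
    (h : ∀ b ∈ fixS x, B a b = 0) : a = 0 := by
  have hc := isCompl_fix_mov hm hmF
  apply hnd
  intro z
  have hz : z ∈ fixS x ⊔ movS x := by rw [hc.sup_eq_top]; trivial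
  obtain ⟨c, hc', b, hb, rfl⟩ := Submodule.mem_sup.1 hz
  rw [map_add, bil_fix_mov hx ha hb, h c hc', add_zero]

/-- the map `x - x⁻¹` -/
noncomputable def dmap (x : Module.End F V) (m : ℕ) : Module.End F V := x - x ^ (m - 1)

theorem dmap_apply (x : Module.End F V) (m : ℕ) (a : V) : dmap x m a = x a - (x ^ (m - 1)) a := rfl

theorem commute_dmap {x y : Module.End F V} (hc : Commute y x) (m : ℕ) : Commute y (dmap x m) :=
  hc.sub_right (hc.pow_right _)

theorem dmap_mem_movS {x : Module.End F V} (m : ℕ) {a : V} (ha : a ∈ movS x) :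
    dmap x m a ∈ movS x :=
  map_mem_movS (commute_dmap (Commute.refl x) m).symm ha

theorem dmap_skew {B : LinearMap.BilinForm F V} {x : Module.End F V} (hx : Pres B x) {m : ℕ}
    (hm : x ^ m = 1) (hm0 : 0 < m) (a b : V) : B (dmap x m a) b = - B a (dmap x m b) := by
  rw [dmap_apply, dmap_apply, map_sub, LinearMap.sub_apply, map_sub, hx.adj hm hm0,
    hx.adj' hm hm0]
  ring

theorem eq_zero_of_dmap {x : Module.End F V} {m : ℕ} (hm : x ^ m = 1) (hmF : (m : F) ≠ 0)
    (hodd : Odd m) {a : V} (ha : a ∈ movS x) (h : dmap x m a = 0) : a = 0 := by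
  obtain ⟨l, hl⟩ := hodd
  have hm0 : 0 < m := by omega
  rw [dmap_apply, sub_eq_zero] at h
  have h2 : (x ^ 2) a = a := by
    rw [pow_two, Module.End.mul_apply, h, ← Module.End.mul_apply, pow_pred_mul hm hm0,
      Module.End.one_apply]
  have h3 : x = (x ^ 2) ^ (l + 1) := by
    rw [← pow_mul]
    have : 2 * (l + 1) = m + 1 := by omega
    rw [this, pow_succ, hm, one_mul]
  have h4 : x a = a := by
    conv_lhs => rw [h3]
    exact pow_apply_of_fix h2 _
  exact (Submodule.disjoint_def.1 (disjoint_fix_mov hm hmF)) a (mem_fixS.2 h4) ha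

/-- the transferred form on `[V, x]` -/
noncomputable def transForm (B : LinearMap.BilinForm F V) (x : Module.End F V) (m : ℕ) :
    LinearMap.BilinForm F ↥(movS x) :=
  (B.compLeft (dmap x m)).restrict (movS x)

theorem transForm_apply (B : LinearMap.BilinForm F V) (x : Module.End F V) (m : ℕ)
    (a b : ↥(movS x)) : transForm B x m a b = B (dmap x m (a : V)) (b : V) := rfl

theorem transForm_nondeg [FiniteDimensional F V] {B : LinearMap.BilinForm F V}
    {x : Module.End F V} (hx : Pres B x) {m : ℕ} (hm : x ^ m = 1) (hmF : (m : F) ≠ 0)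
    (hodd : Odd m) (hnd : ∀ a, (∀ b, B a b = 0) → a = 0) (a : ↥(movS x))
    (h : ∀ b, transForm B x m a b = 0) : a = 0 := by
  apply Subtype.ext
  apply eq_zero_of_dmap hm hmF hodd a.2
  apply nondeg_mov hx hm hmF hnd (dmap_mem_movS m a.2)
  intro b hb
  exact h ⟨b, hb⟩

theorem transForm_swap {B : LinearMap.BilinForm F V} {x : Module.End F V} (hx : Pres B x) {m : ℕ}
    (hm : x ^ m = 1) (hm0 : 0 < m) {ε : F} (hε : ∀ a b, B b a = ε * B a b) (a b : ↥(movS x)) :
    transForm B x m b a = - ε * transForm B x m a b := by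
  rw [transForm_apply, transForm_apply, hε, dmap_skew hx hm hm0]
  ring

theorem transForm_isAlt {B : LinearMap.BilinForm F V} {x : Module.End F V} (hx : Pres B x)
    {m : ℕ} (hm : x ^ m = 1) (hm0 : 0 < m) (h2 : (2 : F) ≠ 0) (hB : ∀ a b, B b a = B a b) :
    (transForm B x m).IsAlt := by
  intro a
  have h1 := transForm_swap hx hm hm0 (ε := 1) (by intro a b; rw [one_mul]; exact hB a b) a a
  have h3 : (2 : F) * transForm B x m a a = 0 := by linear_combination h1
  rcases mul_eq_zero.1 h3 with h | h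
  · exact absurd h h2
  · exact h

theorem transForm_symm {B : LinearMap.BilinForm F V} {x : Module.End F V} (hx : Pres B x)
    {m : ℕ} (hm : x ^ m = 1) (hm0 : 0 < m) (hB : B.IsAlt) (a b : ↥(movS x)) :
    transForm B x m b a = transForm B x m a b := by
  have h1 := transForm_swap hx hm hm0 (ε := -1)
    (by intro a b; rw [neg_one_mul, hB.neg_eq a b]) a b
  rw [h1]
  ring

/-- isometries commuting with `x` preserve the transferred form -/
theorem transForm_pres {B : LinearMap.BilinForm F V} {x y : Module.End F V} (hy : Pres B y)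
    (hc : Commute y x) (m : ℕ) {y' : Module.End F ↥(movS x)} (hy' : ∀ w, ((y' w : ↥(movS x)) : V) = y w) :
    Pres (transForm B x m) y' := by
  intro a b
  rw [transForm_apply, transForm_apply, hy', hy', ← Module.End.mul_apply (dmap x m) y,
    ← (commute_dmap hc m).eq, Module.End.mul_apply, hy]

/-- powers of a restricted map -/
theorem res_pow {W : Submodule F V} {y : Module.End F V} {y' : Module.End F ↥W}
    (h : ∀ w, ((y' w : ↥W) : V) = y w) (j : ℕ) (w : ↥W) : (((y' ^ j) w : ↥W) : V) = (y ^ j) w := by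
  induction j generalizing w with
  | zero => simp
  | succ k ih => rw [pow_succ, pow_succ, Module.End.mul_apply, Module.End.mul_apply, ih, h]

theorem res_eq_smul_iff {W : Submodule F V} {y : Module.End F V} {y' : Module.End F ↥W}
    (h : ∀ w, ((y' w : ↥W) : V) = y w) (c : F) :
    y' = c • (1 : Module.End F ↥W) ↔ ∀ w ∈ W, y w = c • w := by
  constructor
  · intro h1 w hw
    have := h ⟨w, hw⟩
    rw [h1] at this
    simpa using this.symm
  · intro h1
    apply LinearMap.ext
    intro w
    apply Subtype.ext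
    rw [h, h1 w w.2]
    simp

end Cfsg.Agent.Lib.Helper5.PGBC
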