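import Mathlib
import Cfsg.Agent.Lib.Helper5.PGBC.Trans
import Cfsg.Agent.Lib.Helper5.SpecBC.Sp1
import Cfsg.Agent.Lib.Helper5.SpRep
import Cfsg.Agent.Lib.Helper5.PrimeGraph2

/-!
Interface between `Sp_{2n}(F)`, `PSp_{2n}(F)` and isometries of abstract alternating spaces.
-/

set_option autoImplicit false

namespace Cfsg.Agent.Lib.Helper5.PGBC

open Module Matrix Cfsg.Agent.Lib.Helper5.SpecBC Cfsg.Agent.Lib.Helper2.SpIsom

variable {F : Type*} [Field F] {n : ℕ}

/-- a symplectic matrix as a linear map -/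
noncomputable def slin (g : Matrix.symplecticGroup (Fin n) F) :
    Module.End F (Fin n ⊕ Fin n → F) :=
  Matrix.mulVecLin (g : Matrix (Fin n ⊕ Fin n) (Fin n ⊕ Fin n) F)

theorem slin_apply (g : Matrix.symplecticGroup (Fin n) F) (x : Fin n ⊕ Fin n → F) :
    slin g x = (g : Matrix (Fin n ⊕ Fin n) (Fin n ⊕ Fin n) F) *ᵥ x := rfl

theorem slin_one : slin (1 : Matrix.symplecticGroup (Fin n) F) = 1 := by
  apply LinearMap.ext
  intro x
  rw [slin_apply, Cfsg.Agent.Lib.Helper1.SpBasic.coe_one_mulVec]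
  rfl

theorem slin_mul (g h : Matrix.symplecticGroup (Fin n) F) : slin (g * h) = slin g * slin h := by
  apply LinearMap.ext
  intro x
  rw [slin_apply, Cfsg.Agent.Lib.Helper1.SpBasic.coe_mul_mulVec]
  rfl

theorem slin_pow (g : Matrix.symplecticGroup (Fin n) F) (k : ℕ) : slin (g ^ k) = slin g ^ k := by
  induction k with
  | zero => rw [pow_zero, pow_zero, slin_one]
  | succ k ih => rw [pow_succ, pow_succ, slin_mul, ih]

theorem slin_injective :
    Function.Injective (slin : Matrix.symplecticGroup (Fin n) F → _) := by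
  intro g h hgh
  apply Cfsg.Agent.Lib.Helper1.SpBasic.ext_mulVec
  intro x
  have := congrArg (fun f : Module.End F (Fin n ⊕ Fin n → F) => f x) hgh
  exact this

theorem slin_pres (g : Matrix.symplecticGroup (Fin n) F) : Pres (sympBilin n F) (slin g) := by
  intro x y
  rw [sympBilin_apply, sympBilin_apply, slin_apply, slin_apply]
  exact Cfsg.Agent.Lib.Helper1.SpBasic.form_mulVec g x y

theorem slin_negOne : slin (Cfsg.Agent.S0246.negOne n F) = -1 := by
  apply LinearMap.ext
  intro x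
  rw [slin_apply]
  show (-1 : Matrix (Fin n ⊕ Fin n) (Fin n ⊕ Fin n) F) *ᵥ x = -x
  rw [Matrix.neg_mulVec, Matrix.one_mulVec]

theorem slin_eq_one_iff (g : Matrix.symplecticGroup (Fin n) F) : slin g = 1 ↔ g = 1 := by
  rw [← slin_one]
  exact slin_injective.eq_iff

theorem slin_eq_neg_one_iff (g : Matrix.symplecticGroup (Fin n) F) :
    slin g = -1 ↔ g = Cfsg.Agent.S0246.negOne n F := by
  rw [← slin_negOne]
  exact slin_injective.eq_iff

theorem sympBilin_nondeg' (x : Fin n ⊕ Fin n → F) (hx : ∀ y, sympBilin n F x y = 0) : x = 0 :=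
  Cfsg.Agent.Lib.Helper5.SpRep.sympBilin_nondeg n x hx

/-- from `PSp` to `Sp` -/
theorem exists_sp_of_psp (hn : 1 ≤ n) {m : ℕ} (hm : m ∈ Set.range (orderOf : Cfsg.PSp n F → ℕ)) :
    ∃ g : Matrix.symplecticGroup (Fin n) F,
      ∀ j : ℕ, (g ^ j = 1 ∨ g ^ j = Cfsg.Agent.S0246.negOne n F) ↔ m ∣ j := by
  obtain ⟨x, rfl⟩ := hm
  obtain ⟨g, rfl⟩ := QuotientGroup.mk_surjective x
  refine ⟨g, fun j => ?_⟩
  rw [← Cfsg.Agent.S0246.mem_center_iff hn, orderOf_dvd_iff_pow_eq_one, ← QuotientGroup.mk_pow,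
    QuotientGroup.eq_one_iff]

/-- from `Sp` to `PSp` -/
theorem psp_of_exists_sp (hn : 1 ≤ n) {m : ℕ} (g : Matrix.symplecticGroup (Fin n) F)
    (hg : ∀ j : ℕ, (g ^ j = 1 ∨ g ^ j = Cfsg.Agent.S0246.negOne n F) ↔ m ∣ j) :
    m ∈ Set.range (orderOf : Cfsg.PSp n F → ℕ) := by
  refine ⟨(QuotientGroup.mk g : Cfsg.PSp n F), ?_⟩
  apply Nat.dvd_antisymm
  · rw [orderOf_dvd_iff_pow_eq_one, ← QuotientGroup.mk_pow, QuotientGroup.eq_one_iff,
      Cfsg.Agent.S0246.mem_center_iff hn, hg]
  · rw [← hg, ← Cfsg.Agent.S0246.mem_center_iff hn, ← QuotientGroup.eq_one_iff,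
      QuotientGroup.mk_pow]
    exact pow_orderOf_eq_one _

section abstract

variable {U : Type*} [AddCommGroup U] [Module F U] [FiniteDimensional F U]

/-- an isometry of an abstract alternating space gives an element of `PSp` -/
theorem psp_of_abstract (hn : 1 ≤ n) (B : LinearMap.BilinForm F U) (hB : B.IsAlt)
    (hnd : ∀ x, (∀ y, B x y = 0) → x = 0) (hdim : finrank F U = 2 * n) (T : Module.End F U)
    (hT : Pres B T) {m : ℕ} (hm : ∀ j : ℕ, (T ^ j = 1 ∨ T ^ j = -1) ↔ m ∣ j) :
    m ∈ Set.range (orderOf : Cfsg.PSp n F → ℕ) := by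
  obtain ⟨g, hg⟩ := exists_sp_of_isometry B hB hnd hdim T hT
  apply psp_of_exists_sp hn g
  intro j
  rw [← hm j]
  have h1 : g ^ j = 1 ↔ T ^ j = 1 := by
    have := hg j 1
    rw [one_smul] at this
    constructor
    · intro h
      apply LinearMap.ext
      intro x
      have h3 := this.1 (by rw [h]; rfl) x
      rw [h3, one_smul]
      rfl
    · intro h
      apply Subtype.ext
      apply this.2
      intro x
      rw [h, one_smul]
      rfl
  have h2 : g ^ j = Cfsg.Agent.S0246.negOne n F ↔ T ^ j = -1 := by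
    have := hg j (-1)
    constructor
    · intro h
      apply LinearMap.ext
      intro x
      have h3 := this.1 (by rw [h]; show (-1 : Matrix _ _ F) = _; simp) x
      rw [h3]
      simp
    · intro h
      apply Subtype.ext
      have h3 := this.2 (by intro x; rw [h]; simp)
      rw [h3]
      show _ = (-1 : Matrix _ _ F)
      simp
  rw [h1, h2]

/-- an isometry of an abstract alternating space gives an element of `Sp` -/
theorem sp_of_abstract (B : LinearMap.BilinForm F U) (hB : B.IsAlt)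
    (hnd : ∀ x, (∀ y, B x y = 0) → x = 0) (hdim : finrank F U = 2 * n) (T : Module.End F U)
    (hT : Pres B T) {m : ℕ} (hm : ∀ j : ℕ, T ^ j = 1 ↔ m ∣ j) :
    m ∈ Set.range (orderOf : Matrix.symplecticGroup (Fin n) F → ℕ) := by
  obtain ⟨g, hg⟩ := exists_sp_of_isometry B hB hnd hdim T hT
  refine ⟨g, ?_⟩
  have h1 : ∀ j, g ^ j = 1 ↔ T ^ j = 1 := by
    intro j
    have := hg j 1
    rw [one_smul] at this
    constructor
    · intro h
      apply LinearMap.ext
      intro x
      have h3 := this.1 (by rw [h]; rfl) x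
      rw [h3, one_smul]
      rfl
    · intro h
      apply Subtype.ext
      apply this.2
      intro x
      rw [h, one_smul]
      rfl
  apply Nat.dvd_antisymm
  · rw [orderOf_dvd_iff_pow_eq_one, h1, hm]
  · rw [← hm, ← h1]
    exact pow_orderOf_eq_one _

/-- for odd orders -/
theorem psp_of_abstract_odd [Fintype F] (hn : 1 ≤ n) (B : LinearMap.BilinForm F U) (hB : B.IsAlt)
    (hnd : ∀ x, (∀ y, B x y = 0) → x = 0) (hdim : finrank F U = 2 * n) (T : Module.End F U)
    (hT : Pres B T) {m : ℕ} (hodd : Odd m) (hm : ∀ j : ℕ, T ^ j = 1 ↔ m ∣ j) :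
    m ∈ Set.range (orderOf : Cfsg.PSp n F → ℕ) := by
  rw [Cfsg.Agent.Lib.Helper5.PrimeGraph.orderOf_mem_range_psp_iff hn m (Or.inl hodd)]
  exact sp_of_abstract B hB hnd hdim T hT hm

end abstract

end Cfsg.Agent.Lib.Helper5.PGBC
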