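import Mathlib
import Cfsg.Agent.Lib.Helper5.PGBC.Trans
import Cfsg.Agent.Lib.Helper5.OrthCls4
import Cfsg.Agent.Lib.Helper5.SylTor4

/-!
Isometries of quadratic forms given as endomorphisms, squares of isometries, products.
-/

set_option autoImplicit false

namespace Cfsg.Agent.Lib.Helper5.PGBC

open Module QuadraticMap Cfsg.Agent.Lib.Helper5.SylTor

variable {F : Type*} [Field F]

section general

variable {U : Type*} [AddCommGroup U] [Module F U]

/-- `T` preserves the quadratic form `Q` -/
def QIso (Q : QuadraticForm F U) (T : Module.End F U) : Prop := ∀ v, Q (T v) = Q v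

theorem QIso.one (Q : QuadraticForm F U) : QIso Q 1 := fun _ => rfl

theorem QIso.mul {Q : QuadraticForm F U} {S T : Module.End F U} (hS : QIso Q S) (hT : QIso Q T) :
    QIso Q (S * T) := by
  intro v
  rw [Module.End.mul_apply, hS, hT]

theorem QIso.pow {Q : QuadraticForm F U} {T : Module.End F U} (hT : QIso Q T) (j : ℕ) :
    QIso Q (T ^ j) := by
  induction j with
  | zero => rw [pow_zero]; exact QIso.one Q
  | succ k ih => rw [pow_succ]; exact ih.mul hT

theorem QIso.pres {Q : QuadraticForm F U} {T : Module.End F U} (hT : QIso Q T) :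
    Pres (polarBilin Q) T := by
  intro a b
  rw [polarBilin_apply_apply, polarBilin_apply_apply]
  unfold polar
  rw [← map_add, hT, hT, hT]

/-- `T` is the square of an isometry -/
def QSq (Q : QuadraticForm F U) (T : Module.End F U) : Prop := ∃ S, QIso Q S ∧ S * S = T

theorem QSq.one (Q : QuadraticForm F U) : QSq Q 1 := ⟨1, QIso.one Q, one_mul 1⟩

theorem QSq.of_odd {Q : QuadraticForm F U} {T : Module.End F U} (hT : QIso Q T) {m : ℕ}
    (hm : T ^ m = 1) (hodd : Odd m) : QSq Q T := by
  obtain ⟨l, hl⟩ := hodd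
  refine ⟨T ^ (l + 1), hT.pow _, ?_⟩
  rw [← pow_add]
  have : l + 1 + (l + 1) = m + 1 := by omega
  rw [this, pow_succ, hm, one_mul]

theorem QSq.qiso {Q : QuadraticForm F U} {T : Module.End F U} (h : QSq Q T) : QIso Q T := by
  obtain ⟨S, hS, rfl⟩ := h
  exact hS.mul hS

/-- the quadratic form of a symmetric bilinear form -/
theorem qiso_of_pres {B : LinearMap.BilinForm F U} {T : Module.End F U} (hT : Pres B T) :
    QIso (LinearMap.BilinMap.toQuadraticMap B) T := by
  intro v
  rw [LinearMap.BilinMap.toQuadraticMap_apply, LinearMap.BilinMap.toQuadraticMap_apply, hT]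

theorem nondeg_of_polar (Q : QuadraticForm F U) (key : ∀ x, (∀ y, polar Q x y = 0) → x = 0) :
    (polarBilin Q).Nondegenerate := by
  refine ⟨fun x hx => key x (fun y => ?_), fun y hy => key y (fun x => ?_)⟩
  · have := hx y
    rwa [polarBilin_apply_apply] at this
  · have := hy x
    rwa [polarBilin_apply_apply, polar_comm] at this

theorem nondeg_toQuadraticMap (h2 : (2 : F) ≠ 0) {B : LinearMap.BilinForm F U}
    (hB : ∀ a b, B b a = B a b) (hnd : ∀ a, (∀ b, B a b = 0) → a = 0) :
    (polarBilin (LinearMap.BilinMap.toQuadraticMap B)).Nondegenerate := by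
  apply nondeg_of_polar
  intro x hx
  apply hnd
  intro y
  have := hx y
  rw [LinearMap.BilinMap.polar_toQuadraticMap, hB x y] at this
  have h3 : (2 : F) * B x y = 0 := by linear_combination this
  rcases mul_eq_zero.1 h3 with h | h
  · exact absurd h h2
  · exact h

end general

section prod

variable {U₁ U₂ : Type*} [AddCommGroup U₁] [Module F U₁] [AddCommGroup U₂] [Module F U₂]

theorem prodMap_pow' (T₁ : Module.End F U₁) (T₂ : Module.End F U₂) (j : ℕ) :
    (LinearMap.prodMap T₁ T₂ : Module.End F (U₁ × U₂)) ^ j = LinearMap.prodMap (T₁ ^ j) (T₂ ^ j) := by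
  induction j with
  | zero => rw [pow_zero, pow_zero, pow_zero, LinearMap.prodMap_one]
  | succ k ih => rw [pow_succ, pow_succ, pow_succ, ih, LinearMap.prodMap_mul]

theorem prodMap_eq_smul_iff (T₁ : Module.End F U₁) (T₂ : Module.End F U₂) (c : F) :
    (LinearMap.prodMap T₁ T₂ : Module.End F (U₁ × U₂)) = c • (1 : Module.End F (U₁ × U₂)) ↔
      T₁ = c • (1 : Module.End F U₁) ∧ T₂ = c • (1 : Module.End F U₂) := by
  constructor
  · intro h
    constructor
    · apply LinearMap.ext
      intro a
      have := congrArg (fun f : Module.End F (U₁ × U₂) => (f (a, 0)).1) h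
      simpa using this
    · apply LinearMap.ext
      intro b
      have := congrArg (fun f : Module.End F (U₁ × U₂) => (f (0, b)).2) h
      simpa using this
  · rintro ⟨h1, h2⟩
    apply LinearMap.ext
    intro x
    rw [LinearMap.prodMap_apply, h1, h2]
    simp only [LinearMap.smul_apply, Module.End.one_apply]
    rfl

theorem prodMap_eq_one_iff (T₁ : Module.End F U₁) (T₂ : Module.End F U₂) :
    (LinearMap.prodMap T₁ T₂ : Module.End F (U₁ × U₂)) = 1 ↔ T₁ = 1 ∧ T₂ = 1 := by
  constructor
  · intro h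
    constructor
    · apply LinearMap.ext
      intro a
      have := congrArg (fun f : Module.End F (U₁ × U₂) => (f (a, 0)).1) h
      simpa using this
    · apply LinearMap.ext
      intro b
      have := congrArg (fun f : Module.End F (U₁ × U₂) => (f (0, b)).2) h
      simpa using this
  · rintro ⟨h1, h2⟩
    rw [h1, h2, LinearMap.prodMap_one]

theorem prodMap_eq_neg_one_iff (T₁ : Module.End F U₁) (T₂ : Module.End F U₂) :
    (LinearMap.prodMap T₁ T₂ : Module.End F (U₁ × U₂)) = -1 ↔ T₁ = -1 ∧ T₂ = -1 := by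
  constructor
  · intro h
    constructor
    · apply LinearMap.ext
      intro a
      have := congrArg (fun f : Module.End F (U₁ × U₂) => (f (a, 0)).1) h
      simpa using this
    · apply LinearMap.ext
      intro b
      have := congrArg (fun f : Module.End F (U₁ × U₂) => (f (0, b)).2) h
      simpa using this
  · rintro ⟨h1, h2⟩
    apply LinearMap.ext
    intro x
    rw [LinearMap.prodMap_apply, h1, h2]
    simp only [LinearMap.neg_apply, Module.End.one_apply]
    rfl

theorem QIso.prod {Q₁ : QuadraticForm F U₁} {Q₂ : QuadraticForm F U₂} {T₁ : Module.End F U₁}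
    {T₂ : Module.End F U₂} (h₁ : QIso Q₁ T₁) (h₂ : QIso Q₂ T₂) :
    QIso (Q₁.prod Q₂) (LinearMap.prodMap T₁ T₂) := by
  intro v
  rw [LinearMap.prodMap_apply, QuadraticMap.prod_apply, QuadraticMap.prod_apply, h₁, h₂]

theorem QSq.prod {Q₁ : QuadraticForm F U₁} {Q₂ : QuadraticForm F U₂} {T₁ : Module.End F U₁}
    {T₂ : Module.End F U₂} (h₁ : QSq Q₁ T₁) (h₂ : QSq Q₂ T₂) :
    QSq (Q₁.prod Q₂) (LinearMap.prodMap T₁ T₂) := by
  obtain ⟨S₁, hS₁, rfl⟩ := h₁
  obtain ⟨S₂, hS₂, rfl⟩ := h₂
  refine ⟨LinearMap.prodMap S₁ S₂, hS₁.prod hS₂, ?_⟩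
  rw [LinearMap.prodMap_mul]

theorem Pres.prod {B₁ : LinearMap.BilinForm F U₁} {B₂ : LinearMap.BilinForm F U₂}
    {T₁ : Module.End F U₁} {T₂ : Module.End F U₂} (h₁ : Pres B₁ T₁) (h₂ : Pres B₂ T₂) :
    Pres (prodForm B₁ B₂) (LinearMap.prodMap T₁ T₂) := by
  intro a b
  rw [prodForm_apply, prodForm_apply, LinearMap.prodMap_apply, LinearMap.prodMap_apply, h₁, h₂]

end prod

end Cfsg.Agent.Lib.Helper5.PGBC
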