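import Mathlib
import Cfsg.Agent.Lib.Helper5.PGBC.Trans
import Cfsg.Agent.Lib.Helper5.PGBC.Quad
import Cfsg.Agent.Lib.Helper5.SpecBC.Wrap1
import Cfsg.Agent.Lib.Helper5.SpecBC.Mat1
import Cfsg.Agent.Lib.Helper5.OrthCls12
import Cfsg.Agent.Lib.Helper5.OmegaAdjust
import Cfsg.Agent.Lib.Helper5.OmegaCrit
import Cfsg.Agent.Lib.Helper2.CentOmega6
import Cfsg.Agent.Lib.Helper2.OrthCard1

/-!
Interface between `PΩ_{2n+1}(F)` and isometries of abstract quadratic spaces.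
-/

set_option autoImplicit false

namespace Cfsg.Agent.Lib.Helper5.PGBC

open Module QuadraticMap Cfsg.Agent.Lib.Helper5.SpecBC Cfsg.Agent.Lib.Helper2
  Cfsg.Agent.Lib.Helper2.CDG

variable {F : Type*} [Field F] [Fintype F]

/-- orders of elements of `PΩ_{2n+1}(F)` are orders of elements of `Ω_{2n+1}(F)` -/
theorem range_pomega_iff (hodd : Odd (Fintype.card F)) (n : ℕ) (hn : 3 ≤ n)
    (Qf : (Unit ⊕ (Fin n ⊕ Fin n) → F) → F)
    (Q : QuadraticForm F (Unit ⊕ (Fin n ⊕ Fin n) → F)) (hQf : ⇑Q = Qf)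
    (hQ : (polarBilin Q).Nondegenerate) (m : ℕ) :
    m ∈ Set.range (orderOf : Cfsg.POmega F Qf → ℕ) ↔
      ∃ g : ↥(Cfsg.isometryGroup F ⇑Q), g ∈ commutator ↥(Cfsg.isometryGroup F ⇑Q) ∧
        orderOf g = m := by
  classical
  subst hQf
  have h2 : (2 : F) ≠ 0 := two_ne_zero_of_odd_card hodd
  have hcard : Fintype.card (Unit ⊕ (Fin n ⊕ Fin n)) = 2 * n + 1 := by
    simp only [Fintype.card_sum, Fintype.card_unit, Fintype.card_fin]
    ring
  have hneg : Spinor.negOne Q ∉ Cfsg.Omega F ⇑Q := by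
    intro hmem
    have h1 := (det_and_sign_of_mem h2 hQ (by rw [hcard]; omega) hmem).1
    rw [Spinor.negOne_coe, Matrix.det_neg, Matrix.det_one, mul_one, hcard,
      Odd.neg_one_pow ⟨n, rfl⟩] at h1
    apply h2
    linear_combination -h1
  have hcen : Nat.card ↥(Subgroup.center ↥(Cfsg.Omega F ⇑Q)) = 1 :=
    CentO.card_center_of_not hQ (by rw [hcard]; omega) (Or.inr hneg)
  have hbot : Subgroup.center ↥(Cfsg.Omega F ⇑Q) = ⊥ := Subgroup.card_eq_one.1 hcen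
  have hinj : Function.Injective
      (QuotientGroup.mk' (Subgroup.center ↥(Cfsg.Omega F ⇑Q))) := by
    rw [← MonoidHom.ker_eq_bot_iff, QuotientGroup.ker_mk', hbot]
  constructor
  · rintro ⟨x, hx⟩
    obtain ⟨g, rfl⟩ := QuotientGroup.mk_surjective x
    refine ⟨g.1, g.2, ?_⟩
    rw [Subgroup.orderOf_coe, ← hx]
    exact (orderOf_injective _ hinj g).symm
  · rintro ⟨g, hg, hord⟩
    refine ⟨QuotientGroup.mk' _ ⟨g, hg⟩, ?_⟩
    rw [orderOf_injective _ hinj, ← hord, ← Subgroup.orderOf_coe]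

section abstract

variable {U : Type*} [AddCommGroup U] [Module F U] [FiniteDimensional F U]

theorem injective_of_iso (Qu : QuadraticForm F U) (hQu : (polarBilin Qu).Nondegenerate)
    (S : Module.End F U) (hS : ∀ v, Qu (S v) = Qu v) : Function.Injective S := by
  rw [← LinearMap.ker_eq_bot, LinearMap.ker_eq_bot']
  intro v hv
  apply hQu.1
  intro w
  rw [polarBilin_apply_apply, ← polar_map_map Qu hS, hv]
  simp [polar]

/-- an isometry of an abstract quadratic space of dimension `2n+1` gives an element of `Ω` -/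
theorem omega_of_abstract (hodd : Odd (Fintype.card F)) (n : ℕ) (hn : 1 ≤ n)
    (Qu : QuadraticForm F U) (hQu : (polarBilin Qu).Nondegenerate)
    (hdim : finrank F U = 2 * n + 1) (T : Module.End F U) (hT : QSq Qu T) {m : ℕ}
    (hm : ∀ j : ℕ, T ^ j = 1 ↔ m ∣ j)
    (Q : QuadraticForm F (Unit ⊕ (Fin n ⊕ Fin n) → F))
    (hQ : (polarBilin Q).Nondegenerate) :
    ∃ g : ↥(Cfsg.isometryGroup F ⇑Q), g ∈ commutator ↥(Cfsg.isometryGroup F ⇑Q) ∧
        orderOf g = m := by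
  classical
  obtain ⟨S, hS, rfl⟩ := hT
  have h2 : (2 : F) ≠ 0 := two_ne_zero_of_odd_card hodd
  have hcard : Fintype.card (Unit ⊕ (Fin n ⊕ Fin n)) = 2 * n + 1 := by
    simp only [Fintype.card_sum, Fintype.card_unit, Fintype.card_fin]
    ring
  have hdimV : finrank F (Unit ⊕ (Fin n ⊕ Fin n) → F) = 2 * n + 1 := by
    rw [Module.finrank_fintype_fun_eq_card, hcard]
  obtain ⟨c, e, hc0, he⟩ := OrthCls.exists_similarity_odd hdim hdimV Qu Q hQu hQ
  let Se : U ≃ₗ[F] U := LinearEquiv.ofInjectiveEndo S (injective_of_iso Qu hQu S hS)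
  have hSe : ∀ v, Se v = S v := fun v => rfl
  let S' : (Unit ⊕ (Fin n ⊕ Fin n) → F) ≃ₗ[F] (Unit ⊕ (Fin n ⊕ Fin n) → F) :=
    (e.symm.trans Se).trans e
  have hS'app : ∀ v, S' v = e (S (e.symm v)) := fun v => rfl
  have hS'iso : ∀ v, Q (S' v) = Q v := by
    intro v
    rw [hS'app, he, hS, ← he, LinearEquiv.apply_symm_apply]
  obtain ⟨g₀, hg₀⟩ := OmegaAdjust.exists_iso_of_linearEquiv (Q := Q) S' hS'iso
  have hex : Fintype.card F ≠ 2 ∨ Fintype.card (Unit ⊕ (Fin n ⊕ Fin n)) ≠ 4 := by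
    right
    rw [hcard]
    omega
  refine ⟨g₀ * g₀, OmegaCrit.sq_mem_commutator hQ hex (by rw [hcard]; omega) g₀, ?_⟩
  have hlin : lin g₀ = e.conjRingEquiv S := by
    apply LinearMap.ext
    intro v
    rw [lin_apply, hg₀, hS'app]
    rfl
  have hpow : ∀ j : ℕ, (g₀ * g₀) ^ j = 1 ↔ (S * S) ^ j = 1 := by
    intro j
    rw [← lin_injective.eq_iff, lin_one, lin_pow, lin_mul, hlin, ← map_mul, ← map_pow,
      ← map_one e.conjRingEquiv]
    exact e.conjRingEquiv.injective.eq_iff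
  apply Nat.dvd_antisymm
  · rw [orderOf_dvd_iff_pow_eq_one, hpow, hm]
  · rw [← hm, ← hpow]
    exact pow_orderOf_eq_one _

/-- the same with conclusion in `PΩ` -/
theorem pomega_of_abstract (hodd : Odd (Fintype.card F)) (n : ℕ) (hn : 3 ≤ n)
    (Qu : QuadraticForm F U) (hQu : (polarBilin Qu).Nondegenerate)
    (hdim : finrank F U = 2 * n + 1) (T : Module.End F U) (hT : QSq Qu T) {m : ℕ}
    (hm : ∀ j : ℕ, T ^ j = 1 ↔ m ∣ j) :
    m ∈ Set.range (orderOf : Cfsg.POmega F (Cfsg.quadFormOdd n F) → ℕ) := by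
  have h2 : (2 : F) ≠ 0 := two_ne_zero_of_odd_card hodd
  rw [range_pomega_iff hodd n hn (Cfsg.quadFormOdd n F) (OrthCard.QOd n F) (OrthCard.QOd_coe n)
    (OrthCard.QOd_nondeg h2 n) m]
  exact omega_of_abstract hodd n (by omega) Qu hQu hdim T hT hm _ (OrthCard.QOd_nondeg h2 n)

end abstract

/-- from `PΩ` to `Ω` -/
theorem exists_omega_of_pomega (hodd : Odd (Fintype.card F)) (n : ℕ) (hn : 3 ≤ n) {m : ℕ}
    (hm : m ∈ Set.range (orderOf : Cfsg.POmega F (Cfsg.quadFormOdd n F) → ℕ)) :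
    ∃ g : ↥(Cfsg.isometryGroup F ⇑(OrthCard.QOd n F)),
      g ∈ commutator ↥(Cfsg.isometryGroup F ⇑(OrthCard.QOd n F)) ∧ orderOf g = m := by
  have h2 : (2 : F) ≠ 0 := two_ne_zero_of_odd_card hodd
  exact (range_pomega_iff hodd n hn (Cfsg.quadFormOdd n F) (OrthCard.QOd n F)
    (OrthCard.QOd_coe n) (OrthCard.QOd_nondeg h2 n) m).1 hm

end Cfsg.Agent.Lib.Helper5.PGBC
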