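import Mathlib
import Cfsg.Agent.Lib.Helper5.PGBC.Quad
import Cfsg.Agent.Lib.Helper5.SpecBC.Sp2

/-!
Standard small spaces with explicit isometries, used for padding.
-/

set_option autoImplicit false

namespace Cfsg.Agent.Lib.Helper5.PGBC

open Module QuadraticMap Cfsg.Agent.Lib.Helper5.SylTor Cfsg.Agent.Lib.Helper5.SpecBC

variable (F : Type*) [Field F]

section sumsq

/-- the sum of squares on `F^d` -/
noncomputable def qPad (d : ℕ) : QuadraticForm F (Fin d → F) :=
  QuadraticMap.pi (fun _ : Fin d => (QuadraticMap.sq : QuadraticForm F F))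

theorem qPad_apply (d : ℕ) (v : Fin d → F) : qPad F d v = ∑ i, v i * v i := by
  rw [qPad, QuadraticMap.pi_apply]
  rfl

theorem qPad_nondeg (h2 : (2 : F) ≠ 0) (d : ℕ) : (polarBilin (qPad F d)).Nondegenerate := by
  classical
  apply nondeg_of_polar
  intro x hx
  funext i
  have h1 := hx (Pi.single i 1)
  rw [qPad, QuadraticMap.Ring.polar_pi, Finset.sum_eq_single i] at h1
  · have h3 : (2 : F) * x i = 0 := by
      rw [← h1]
      simp [polar, QuadraticMap.sq]
      ring
    rcases mul_eq_zero.1 h3 with h | h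
    · exact absurd h h2
    · exact h
  · intro j _ hj
    rw [Pi.single_eq_of_ne hj]
    simp [polar]
  · intro hi
    exact absurd (Finset.mem_univ i) hi

theorem finrank_qPad (d : ℕ) : finrank F (Fin d → F) = d := Module.finrank_fin_fun F

end sumsq

section plane

/-- the form `a² + b²` -/
noncomputable def q2 : QuadraticForm F (F × F) :=
  (QuadraticMap.sq : QuadraticForm F F).prod (QuadraticMap.sq : QuadraticForm F F)

theorem q2_apply (v : F × F) : q2 F v = v.1 * v.1 + v.2 * v.2 := rfl

theorem sq_nondeg (h2 : (2 : F) ≠ 0) :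
    (polarBilin (QuadraticMap.sq : QuadraticForm F F)).Nondegenerate := by
  apply nondeg_of_polar
  intro x hx
  have h1 := hx 1
  have h3 : (2 : F) * x = 0 := by
    rw [← h1]
    simp [polar, QuadraticMap.sq]
    ring
  rcases mul_eq_zero.1 h3 with h | h
  · exact absurd h h2
  · exact h

theorem q2_nondeg (h2 : (2 : F) ≠ 0) : (polarBilin (q2 F)).Nondegenerate :=
  Cfsg.Agent.Lib.Helper5.OrthCls.prod_nondeg _ _ (sq_nondeg F h2) (sq_nondeg F h2)

/-- the rotation by a quarter turn -/
noncomputable def rot : Module.End F (F × F) :=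
  LinearMap.prod (-(LinearMap.snd F F F)) (LinearMap.fst F F F)

theorem rot_apply (v : F × F) : rot F v = (-v.2, v.1) := rfl

theorem rot_qiso : QIso (q2 F) (rot F) := by
  intro v
  rw [q2_apply, q2_apply, rot_apply]
  ring

theorem rot_sq : rot F * rot F = -1 := by
  apply LinearMap.ext
  intro v
  rw [Module.End.mul_apply, rot_apply, rot_apply]
  simp only [LinearMap.neg_apply, Module.End.one_apply]
  rfl

theorem qsq_neg_one : QSq (q2 F) (-1) := ⟨rot F, rot_qiso F, rot_sq F⟩

theorem finrank_plane : finrank F (F × F) = 2 := by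
  rw [Module.finrank_prod, Module.finrank_self]

end plane

section three

/-- the form `α γ + β²` on `F³` -/
noncomputable def q3 : QuadraticForm F (F × F × F) :=
  QuadraticMap.linMulLin (LinearMap.fst F F (F × F))
      ((LinearMap.snd F F F).comp (LinearMap.snd F F (F × F))) +
    QuadraticMap.linMulLin ((LinearMap.fst F F F).comp (LinearMap.snd F F (F × F)))
      ((LinearMap.fst F F F).comp (LinearMap.snd F F (F × F)))

theorem q3_apply (v : F × F × F) : q3 F v = v.1 * v.2.2 + v.2.1 * v.2.1 := rfl

theorem q3_polar (v w : F × F × F) :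
    polar (q3 F) v w = v.1 * w.2.2 + w.1 * v.2.2 + 2 * (v.2.1 * w.2.1) := by
  unfold polar
  rw [q3_apply, q3_apply, q3_apply]
  simp only [Prod.fst_add, Prod.snd_add]
  ring

theorem q3_nondeg (h2 : (2 : F) ≠ 0) : (polarBilin (q3 F)).Nondegenerate := by
  apply nondeg_of_polar
  intro x hx
  have h1 := hx (0, (0, 1))
  have h3 := hx (1, (0, 0))
  have h4 := hx (0, (1, 0))
  rw [q3_polar] at h1 h3 h4
  simp only [mul_one, mul_zero, zero_mul, add_zero, one_mul, zero_add] at h1 h3 h4
  have h5 : x.2.1 = 0 := by
    rcases mul_eq_zero.1 h4 with h | h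
    · exact absurd h h2
    · exact h
  exact Prod.ext h1 (Prod.ext h5 h3)

/-- a Siegel element -/
noncomputable def sieg : Module.End F (F × F × F) :=
  LinearMap.prod
    (LinearMap.fst F F (F × F) - (2 : F) • (LinearMap.fst F F F).comp (LinearMap.snd F F (F × F)) -
      (LinearMap.snd F F F).comp (LinearMap.snd F F (F × F)))
    (LinearMap.prod
      ((LinearMap.fst F F F).comp (LinearMap.snd F F (F × F)) +
        (LinearMap.snd F F F).comp (LinearMap.snd F F (F × F)))
      ((LinearMap.snd F F F).comp (LinearMap.snd F F (F × F))))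

theorem sieg_apply (v : F × F × F) :
    sieg F v = (v.1 - 2 * v.2.1 - v.2.2, (v.2.1 + v.2.2, v.2.2)) := rfl

theorem sieg_qiso : QIso (q3 F) (sieg F) := by
  intro v
  rw [q3_apply, q3_apply, sieg_apply]
  ring

theorem sieg_pow_apply (j : ℕ) (v : F × F × F) :
    (sieg F ^ j) v = (v.1 - 2 * (j : F) * v.2.1 - (j : F) ^ 2 * v.2.2,
      (v.2.1 + (j : F) * v.2.2, v.2.2)) := by
  induction j generalizing v with
  | zero => simp
  | succ k ih =>
    rw [pow_succ, Module.End.mul_apply, ih, sieg_apply]
    simp only [Nat.cast_succ]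
    refine Prod.ext ?_ (Prod.ext ?_ rfl)
    · simp only; ring
    · simp only; ring

theorem sieg_pow_eq_one_iff (j : ℕ) : sieg F ^ j = 1 ↔ (j : F) = 0 := by
  constructor
  · intro h
    have h1 := congrArg (fun f : Module.End F (F × F × F) => (f (0, (0, 1))).2.1) h
    simp only [sieg_pow_apply] at h1
    simpa using h1
  · intro h
    apply LinearMap.ext
    intro v
    rw [sieg_pow_apply, h]
    simp

theorem finrank_three : finrank F (F × F × F) = 3 := by
  rw [Module.finrank_prod, Module.finrank_prod, Module.finrank_self]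

end three

section alt

/-- the hyperbolic alternating space of dimension `2d` -/
noncomputable def aPad (d : ℕ) : LinearMap.BilinForm F (Fin d → F × F) :=
  piForm d (hypForm F F)

theorem aPad_isAlt (d : ℕ) : (aPad F d).IsAlt := piForm_isAlt d (hypForm_isAlt F F)

theorem aPad_nondeg (d : ℕ) (x : Fin d → F × F) (hx : ∀ y, aPad F d x y = 0) : x = 0 :=
  piForm_nondeg d (hypForm_nondeg F F) x hx

theorem finrank_aPad (d : ℕ) : finrank F (Fin d → F × F) = 2 * d := by
  rw [Module.finrank_pi_fintype]
  simp [Module.finrank_prod, Module.finrank_self, mul_comm]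

/-- the unipotent element acting as `uMap` on every coordinate -/
noncomputable def uPi (d : ℕ) : Module.End F (Fin d → F × F) :=
  LinearMap.pi (fun i => (uMap F).comp (LinearMap.proj i))

theorem uPi_apply (d : ℕ) (v : Fin d → F × F) (i : Fin d) : uPi F d v i = uMap F (v i) := rfl

theorem uPi_pres (d : ℕ) : Pres (aPad F d) (uPi F d) := by
  intro a b
  rw [aPad, piForm_apply, piForm_apply]
  apply Finset.sum_congr rfl
  intro i _
  rw [uPi_apply, uPi_apply, uMap_pres]

theorem uPi_pow_apply (d : ℕ) (j : ℕ) (v : Fin d → F × F) (i : Fin d) :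
    (uPi F d ^ j) v i = (uMap F ^ j) (v i) := by
  induction j generalizing v with
  | zero => simp
  | succ k ih => rw [pow_succ, pow_succ, Module.End.mul_apply, Module.End.mul_apply, ih, uPi_apply]

theorem uPi_pow_eq_one_iff (d : ℕ) (hd : 0 < d) (j : ℕ) : uPi F d ^ j = 1 ↔ (j : F) = 0 := by
  constructor
  · intro h
    have h1 := congrArg (fun f : Module.End F (Fin d → F × F) =>
      (f (fun _ => ((0 : F), (1 : F))) ⟨0, hd⟩).1) h
    simp only [uPi_pow_apply, uMap_pow_apply] at h1
    simpa using h1
  · intro h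
    apply LinearMap.ext
    intro v
    funext i
    rw [uPi_pow_apply, uMap_pow_apply, h]
    simp

end alt

end Cfsg.Agent.Lib.Helper5.PGBC
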