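import Mathlib
import Cfsg.Agent.Lib.Helper5.PGBC.Pads
import Cfsg.Agent.Lib.Helper5.PGBC.IfaceO
import Cfsg.Agent.Lib.Helper5.PGBC.IfaceSp

/-!
Padding an isometry of a small space to an element of `PSp_{2n}` resp. `PΩ_{2n+1}`.
-/

set_option autoImplicit false

namespace Cfsg.Agent.Lib.Helper5.PGBC

open Module QuadraticMap Cfsg.Agent.Lib.Helper5.SylTor Cfsg.Agent.Lib.Helper5.SpecBC

variable {F : Type*} [Field F] [Fintype F]

section sp

variable {W : Type*} [AddCommGroup W] [Module F W] [FiniteDimensional F W]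

theorem psp_pad_one {n : ℕ} (hn : 1 ≤ n) (A : LinearMap.BilinForm F W) (hA : A.IsAlt)
    (hnd : ∀ x, (∀ y, A x y = 0) → x = 0) {d : ℕ} (hdim : finrank F W + 2 * d = 2 * n)
    (T : Module.End F W) (hT : Pres A T) {m : ℕ} (hodd : Odd m) (hm : ∀ j : ℕ, T ^ j = 1 ↔ m ∣ j) :
    m ∈ Set.range (orderOf : Cfsg.PSp n F → ℕ) := by
  apply psp_of_abstract_odd hn (prodForm A (aPad F d)) (prodForm_isAlt hA (aPad_isAlt F d))
    (prodForm_nondeg hnd (aPad_nondeg F d))
    (by rw [Module.finrank_prod, finrank_aPad, hdim])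
    (LinearMap.prodMap T (1 : Module.End F (Fin d → F × F))) (hT.prod (Pres.one _)) hodd
  intro j
  rw [prodMap_pow', one_pow, prodMap_eq_one_iff, hm]
  simp

theorem psp_pad_unip (p : ℕ) [hp : Fact p.Prime] [CharP F p] (h2 : (2 : F) ≠ 0) {n : ℕ}
    (hn : 1 ≤ n) (A : LinearMap.BilinForm F W) (hA : A.IsAlt)
    (hnd : ∀ x, (∀ y, A x y = 0) → x = 0) {d : ℕ} (hd : 0 < d)
    (hdim : finrank F W + 2 * d = 2 * n)
    (T : Module.End F W) (hT : Pres A T) {s : ℕ} (hodd : Odd s) (hsp : Nat.Coprime p s)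
    (hm : ∀ j : ℕ, T ^ j = 1 ↔ s ∣ j) :
    p * s ∈ Set.range (orderOf : Cfsg.PSp n F → ℕ) := by
  have hpodd : Odd p := by
    rcases hp.out.eq_two_or_odd' with h | h
    · exfalso
      apply h2
      have := CharP.cast_eq_zero F p
      rw [h] at this
      exact_mod_cast this
    · exact h
  apply psp_of_abstract_odd hn (prodForm A (aPad F d)) (prodForm_isAlt hA (aPad_isAlt F d))
    (prodForm_nondeg hnd (aPad_nondeg F d))
    (by rw [Module.finrank_prod, finrank_aPad, hdim])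
    (LinearMap.prodMap T (uPi F d)) (hT.prod (uPi_pres F d)) (hpodd.mul hodd)
  intro j
  rw [prodMap_pow', prodMap_eq_one_iff, hm, uPi_pow_eq_one_iff F d hd, CharP.cast_eq_zero_iff F p]
  constructor
  · rintro ⟨h1, h3⟩
    exact Nat.Coprime.mul_dvd_of_dvd_of_dvd hsp h3 h1
  · intro h
    exact ⟨dvd_trans (Dvd.intro_left _ rfl) h, dvd_trans (Dvd.intro _ rfl) h⟩

theorem neg_one_pow_end {M : Type*} [AddCommGroup M] [Module F M] [Nontrivial M] (h2 : (2 : F) ≠ 0)
    (j : ℕ) : ((-1 : Module.End F M) ^ j = 1 ↔ Even j) ∧ ((-1 : Module.End F M) ^ j = -1 ↔ Odd j) := by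
  have hne : (1 : Module.End F M) ≠ -1 := by
    intro h
    obtain ⟨v, hv⟩ := exists_ne (0 : M)
    have h3 := congrArg (fun f : Module.End F M => f v) h
    simp only [Module.End.one_apply, LinearMap.neg_apply] at h3
    have h4 : (2 : F) • v = 0 := by
      rw [two_smul]
      nth_rewrite 1 [h3]
      exact neg_add_cancel v
    rcases smul_eq_zero.1 h4 with h5 | h5
    · exact h2 h5
    · exact hv h5
  rcases Nat.even_or_odd j with hj | hj
  · rw [hj.neg_one_pow]
    refine ⟨⟨fun _ => hj, fun _ => rfl⟩, ⟨fun h => absurd h hne, fun h => ?_⟩⟩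
    exact absurd hj (Nat.not_even_iff_odd.2 h)
  · rw [hj.neg_one_pow]
    refine ⟨⟨fun h => absurd h.symm hne, fun h => ?_⟩, ⟨fun _ => hj, fun _ => rfl⟩⟩
    exact absurd h (Nat.not_even_iff_odd.2 hj)

theorem psp_pad_neg (h2 : (2 : F) ≠ 0) {n : ℕ}
    (hn : 1 ≤ n) (A : LinearMap.BilinForm F W) (hA : A.IsAlt)
    (hnd : ∀ x, (∀ y, A x y = 0) → x = 0) {d : ℕ} (hd : 0 < d)
    (hdim : finrank F W + 2 * d = 2 * n)
    (T : Module.End F W) (hT : Pres A T) {s : ℕ} (hodd : Odd s) (hs1 : 1 < s)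
    (hm : ∀ j : ℕ, T ^ j = 1 ↔ s ∣ j) :
    2 * s ∈ Set.range (orderOf : Cfsg.PSp n F → ℕ) := by
  have : Nontrivial (Fin d → F × F) := by
    have : Nonempty (Fin d) := ⟨⟨0, hd⟩⟩
    infer_instance
  have hpres : Pres (aPad F d) (-1 : Module.End F (Fin d → F × F)) := by
    intro a b
    simp
  apply psp_of_abstract hn (prodForm A (aPad F d)) (prodForm_isAlt hA (aPad_isAlt F d))
    (prodForm_nondeg hnd (aPad_nondeg F d))
    (by rw [Module.finrank_prod, finrank_aPad, hdim])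
    (LinearMap.prodMap T (-1 : Module.End F (Fin d → F × F))) (hT.prod hpres)
  intro j
  rw [prodMap_pow', prodMap_eq_one_iff, prodMap_eq_neg_one_iff, hm,
    (neg_one_pow_end (F := F) (M := Fin d → F × F) h2 j).1,
    (neg_one_pow_end (F := F) (M := Fin d → F × F) h2 j).2]
  have hcop : Nat.Coprime 2 s := (Nat.coprime_two_left).2 hodd
  constructor
  · rintro (⟨h1, h3⟩ | ⟨h1, h3⟩)
    · exact Nat.Coprime.mul_dvd_of_dvd_of_dvd hcop (even_iff_two_dvd.1 h3) h1
    · exfalso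
      have h4 : (T ^ j) ^ s = 1 := by
        rw [← pow_mul, hm]
        exact Dvd.intro_left _ rfl
      rw [h1, hodd.neg_one_pow] at h4
      -- `W` is trivial
      have h5 : ∀ w : W, w = 0 := by
        intro w
        have h6 := congrArg (fun f : Module.End F W => f w) h4
        simp only [Module.End.one_apply, LinearMap.neg_apply] at h6
        have h7 : (2 : F) • w = 0 := by
          rw [two_smul]
          nth_rewrite 1 [← h6]
          exact neg_add_cancel w
        rcases smul_eq_zero.1 h7 with h8 | h8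
        · exact absurd h8 h2
        · exact h8
      have h6 : T ^ 1 = 1 := by
        apply LinearMap.ext
        intro w
        rw [h5 ((T ^ 1) w), h5 ((1 : Module.End F W) w)]
      rw [hm] at h6
      have := Nat.le_of_dvd one_pos h6
      omega
  · intro h
    left
    exact ⟨dvd_trans (Dvd.intro_left _ rfl) h, even_iff_two_dvd.2 (dvd_trans (Dvd.intro _ rfl) h)⟩

end sp

section orth

variable {W : Type*} [AddCommGroup W] [Module F W] [FiniteDimensional F W]

theorem pomega_pad_one (hodd : Odd (Fintype.card F)) {n : ℕ} (hn : 3 ≤ n)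
    (Qw : QuadraticForm F W) (hQw : (polarBilin Qw).Nondegenerate) {d : ℕ}
    (hdim : finrank F W + d = 2 * n + 1) (T : Module.End F W) (hT : QSq Qw T) {m : ℕ}
    (hm : ∀ j : ℕ, T ^ j = 1 ↔ m ∣ j) :
    m ∈ Set.range (orderOf : Cfsg.POmega F (Cfsg.quadFormOdd n F) → ℕ) := by
  have h2 : (2 : F) ≠ 0 := two_ne_zero_of_odd_card hodd
  apply pomega_of_abstract hodd n hn (Qw.prod (qPad F d))
    (Cfsg.Agent.Lib.Helper5.OrthCls.prod_nondeg _ _ hQw (qPad_nondeg F h2 d))
    (by rw [Module.finrank_prod, finrank_qPad, hdim])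
    (LinearMap.prodMap T (1 : Module.End F (Fin d → F))) (hT.prod (QSq.one _))
  intro j
  rw [prodMap_pow', one_pow, prodMap_eq_one_iff, hm]
  simp

theorem pomega_pad_sieg (p : ℕ) [hp : Fact p.Prime] [CharP F p] (hodd : Odd (Fintype.card F))
    {n : ℕ} (hn : 3 ≤ n)
    (Qw : QuadraticForm F W) (hQw : (polarBilin Qw).Nondegenerate) {d : ℕ}
    (hdim : finrank F W + 3 + d = 2 * n + 1) (T : Module.End F W) (hT : QSq Qw T) {s : ℕ}
    (hsp : Nat.Coprime p s) (hm : ∀ j : ℕ, T ^ j = 1 ↔ s ∣ j) :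
    p * s ∈ Set.range (orderOf : Cfsg.POmega F (Cfsg.quadFormOdd n F) → ℕ) := by
  have h2 : (2 : F) ≠ 0 := two_ne_zero_of_odd_card hodd
  have hpodd : Odd p := by
    rcases hp.out.eq_two_or_odd' with h | h
    · exfalso
      apply h2
      have := CharP.cast_eq_zero F p
      rw [h] at this
      exact_mod_cast this
    · exact h
  have hsq : QSq (q3 F) (sieg F) := by
    apply QSq.of_odd (sieg_qiso F) (m := p) _ hpodd
    rw [sieg_pow_eq_one_iff, CharP.cast_eq_zero]
  apply pomega_of_abstract hodd n hn (Qw.prod ((q3 F).prod (qPad F d)))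
    (Cfsg.Agent.Lib.Helper5.OrthCls.prod_nondeg _ _ hQw
      (Cfsg.Agent.Lib.Helper5.OrthCls.prod_nondeg _ _ (q3_nondeg F h2) (qPad_nondeg F h2 d)))
    (by rw [Module.finrank_prod, Module.finrank_prod, finrank_qPad, finrank_three, ← hdim]; ring)
    (LinearMap.prodMap T (LinearMap.prodMap (sieg F) (1 : Module.End F (Fin d → F))))
    (hT.prod (hsq.prod (QSq.one _)))
  intro j
  rw [prodMap_pow', prodMap_pow', one_pow, prodMap_eq_one_iff, prodMap_eq_one_iff, hm,
    sieg_pow_eq_one_iff, CharP.cast_eq_zero_iff F p]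
  constructor
  · rintro ⟨h1, h3, -⟩
    exact Nat.Coprime.mul_dvd_of_dvd_of_dvd hsp h3 h1
  · intro h
    exact ⟨dvd_trans (Dvd.intro_left _ rfl) h, dvd_trans (Dvd.intro _ rfl) h, rfl⟩

theorem pomega_pad_neg (hodd : Odd (Fintype.card F))
    {n : ℕ} (hn : 3 ≤ n)
    (Qw : QuadraticForm F W) (hQw : (polarBilin Qw).Nondegenerate) {d : ℕ}
    (hdim : finrank F W + 2 + d = 2 * n + 1) (T : Module.End F W) (hT : QSq Qw T) {s : ℕ}
    (hsodd : Odd s) (hm : ∀ j : ℕ, T ^ j = 1 ↔ s ∣ j) :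
    2 * s ∈ Set.range (orderOf : Cfsg.POmega F (Cfsg.quadFormOdd n F) → ℕ) := by
  have h2 : (2 : F) ≠ 0 := two_ne_zero_of_odd_card hodd
  apply pomega_of_abstract hodd n hn (Qw.prod ((q2 F).prod (qPad F d)))
    (Cfsg.Agent.Lib.Helper5.OrthCls.prod_nondeg _ _ hQw
      (Cfsg.Agent.Lib.Helper5.OrthCls.prod_nondeg _ _ (q2_nondeg F h2) (qPad_nondeg F h2 d)))
    (by rw [Module.finrank_prod, Module.finrank_prod, finrank_qPad, finrank_plane, ← hdim]; ring)
    (LinearMap.prodMap T (LinearMap.prodMap (-1 : Module.End F (F × F))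
      (1 : Module.End F (Fin d → F))))
    (hT.prod ((qsq_neg_one F).prod (QSq.one _)))
  intro j
  rw [prodMap_pow', prodMap_pow', one_pow, prodMap_eq_one_iff, prodMap_eq_one_iff, hm,
    (neg_one_pow_end (F := F) (M := F × F) h2 j).1]
  have hcop : Nat.Coprime 2 s := (Nat.coprime_two_left).2 hsodd
  constructor
  · rintro ⟨h1, h3, -⟩
    exact Nat.Coprime.mul_dvd_of_dvd_of_dvd hcop (even_iff_two_dvd.1 h3) h1
  · intro h
    exact ⟨dvd_trans (Dvd.intro_left _ rfl) h,
      even_iff_two_dvd.2 (dvd_trans (Dvd.intro _ rfl) h), rfl⟩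

end orth

end Cfsg.Agent.Lib.Helper5.PGBC
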