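import Mathlib
import Cfsg.Agent.Lib.Helper5.PGBC.Quad
import Cfsg.Agent.Lib.Helper5.AltForm

/-!
Transfer packages: restriction of commuting maps to `[V, x]` and the two transfer theorems.
-/

set_option autoImplicit false

namespace Cfsg.Agent.Lib.Helper5.PGBC

open Module QuadraticMap Cfsg.Agent.Lib.Helper5.SpecBC

variable {F : Type*} [Field F] {V : Type*} [AddCommGroup V] [Module F V]

/-- restriction to `[V, x]` of a map commuting with `x` -/
noncomputable def resM {x y : Module.End F V} (hc : Commute y x) : Module.End F ↥(movS x) :=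
  y.restrict (fun _ hw => map_mem_movS hc hw)

theorem resM_apply {x y : Module.End F V} (hc : Commute y x) (w : ↥(movS x)) :
    ((resM hc w : ↥(movS x)) : V) = y w := rfl

theorem resM_pow_eq_one_iff {x y : Module.End F V} (hc : Commute y x) (j : ℕ) :
    resM hc ^ j = 1 ↔ ∀ w ∈ movS x, (y ^ j) w = w := by
  constructor
  · intro h w hw
    have := res_pow (resM_apply hc) j ⟨w, hw⟩
    rw [h] at this
    exact this.symm
  · intro h
    apply LinearMap.ext
    intro w
    apply Subtype.ext
    rw [res_pow (resM_apply hc) j w, h w w.2]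
    rfl

theorem resM_self_pow_eq_one_iff [FiniteDimensional F V] {x : Module.End F V} {m : ℕ}
    (hm : x ^ m = 1) (hmF : (m : F) ≠ 0) (j : ℕ) :
    resM (Commute.refl x) ^ j = 1 ↔ x ^ j = 1 := by
  rw [resM_pow_eq_one_iff]
  constructor
  · intro h
    apply ext_fix_mov hm hmF
    · intro a ha
      rw [pow_apply_of_fix (mem_fixS.1 ha)]
      rfl
    · intro a ha
      rw [h a ha]
      rfl
  · intro h w _
    rw [h]
    rfl

/-- a map commuting with `x` is trivial iff it is trivial on both summands -/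
theorem eq_one_iff_fix_mov [FiniteDimensional F V] {x : Module.End F V} {m : ℕ}
    (hm : x ^ m = 1) (hmF : (m : F) ≠ 0) (y : Module.End F V) :
    y = 1 ↔ (∀ a ∈ fixS x, y a = a) ∧ (∀ a ∈ movS x, y a = a) := by
  constructor
  · intro h
    rw [h]
    exact ⟨fun _ _ => rfl, fun _ _ => rfl⟩
  · rintro ⟨h1, h3⟩
    exact ext_fix_mov hm hmF (fun a ha => by rw [h1 a ha]; rfl) (fun a ha => by rw [h3 a ha]; rfl)

section orth

variable [FiniteDimensional F V]

theorem transfer_alt (h2 : (2 : F) ≠ 0) (Q : QuadraticForm F V)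
    (hQ : (polarBilin Q).Nondegenerate) {x : Module.End F V} (hx : QIso Q x) {m : ℕ}
    (hm : x ^ m = 1) (hodd : Odd m) (hmF : (m : F) ≠ 0) :
    ∃ A : LinearMap.BilinForm F ↥(movS x), A.IsAlt ∧ (∀ a, (∀ b, A a b = 0) → a = 0) ∧
      ∀ y : Module.End F V, QIso Q y → ∀ hc : Commute y x, Pres A (resM hc) := by
  have hm0 : 0 < m := by
    obtain ⟨l, hl⟩ := hodd
    omega
  refine ⟨transForm (polarBilin Q) x m, ?_, ?_, ?_⟩
  · apply transForm_isAlt hx.pres hm hm0 h2
    intro a b
    rw [polarBilin_apply_apply, polarBilin_apply_apply, polar_comm]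
  · exact transForm_nondeg hx.pres hm hmF hodd hQ.1
  · intro y hy hc
    exact transForm_pres hy.pres hc m (resM_apply hc)

theorem even_finrank_movS_orth (h2 : (2 : F) ≠ 0) (Q : QuadraticForm F V)
    (hQ : (polarBilin Q).Nondegenerate) {x : Module.End F V} (hx : QIso Q x) {m : ℕ}
    (hm : x ^ m = 1) (hodd : Odd m) (hmF : (m : F) ≠ 0) : Even (finrank F ↥(movS x)) := by
  obtain ⟨A, hA, hnd, -⟩ := transfer_alt h2 Q hQ hx hm hodd hmF
  exact AltForm.even_finrank_of_nondegenerate hA hnd

theorem transfer_symm (h2 : (2 : F) ≠ 0) (B : LinearMap.BilinForm F V) (hB : B.IsAlt)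
    (hnd : ∀ a, (∀ b, B a b = 0) → a = 0) {x : Module.End F V} (hx : Pres B x) {m : ℕ}
    (hm : x ^ m = 1) (hodd : Odd m) (hmF : (m : F) ≠ 0) :
    ∃ Qw : QuadraticForm F ↥(movS x), (polarBilin Qw).Nondegenerate ∧
      ∀ y : Module.End F V, Pres B y → ∀ hc : Commute y x, QIso Qw (resM hc) := by
  have hm0 : 0 < m := by
    obtain ⟨l, hl⟩ := hodd
    omega
  refine ⟨LinearMap.BilinMap.toQuadraticMap (transForm B x m), ?_, ?_⟩
  · apply nondeg_toQuadraticMap h2
    · intro a b
      exact transForm_symm hx hm hm0 hB a b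
    · exact transForm_nondeg hx hm hmF hodd hnd
  · intro y hy hc
    exact qiso_of_pres (transForm_pres hy hc m (resM_apply hc))

theorem even_finrank_movS_alt (B : LinearMap.BilinForm F V) (hB : B.IsAlt)
    (hnd : ∀ a, (∀ b, B a b = 0) → a = 0) {x : Module.End F V} (hx : Pres B x) {m : ℕ}
    (hm : x ^ m = 1) (hmF : (m : F) ≠ 0) : Even (finrank F ↥(movS x)) := by
  apply AltForm.even_finrank_of_nondegenerate (B := B.restrict (movS x))
  · intro a
    exact hB a
  · intro a ha
    apply Subtype.ext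
    apply nondeg_mov hx hm hmF hnd a.2
    intro b hb
    exact ha ⟨b, hb⟩

theorem even_finrank_fixS_alt (B : LinearMap.BilinForm F V) (hB : B.IsAlt)
    (hnd : ∀ a, (∀ b, B a b = 0) → a = 0) {x : Module.End F V} (hx : Pres B x) {m : ℕ}
    (hm : x ^ m = 1) (hmF : (m : F) ≠ 0) : Even (finrank F ↥(fixS x)) := by
  apply AltForm.even_finrank_of_nondegenerate (B := B.restrict (fixS x))
  · intro a
    exact hB a
  · intro a ha
    apply Subtype.ext
    apply nondeg_fix hx hm hmF hnd a.2
    intro b hb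
    exact ha ⟨b, hb⟩

end orth

end Cfsg.Agent.Lib.Helper5.PGBC
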