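import Mathlib
import Cfsg.Agent.Lib.Helper5.PGBC.Trans2
import Cfsg.Agent.Lib.Helper5.PGBC.PadLemmas

/-!
General transfer lemmas between `PΩ_{2n+1}` and `PSp_{2n}`.
-/

set_option autoImplicit false

namespace Cfsg.Agent.Lib.Helper5.PGBC

open Module QuadraticMap Cfsg.Agent.Lib.Helper5.SpecBC

variable {F : Type*} [Field F] [Fintype F] {V : Type*} [AddCommGroup V] [Module F V]
  [FiniteDimensional F V]

section OtoSp

variable (Q : QuadraticForm F V) (hQ : (polarBilin Q).Nondegenerate)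

include hQ

/-- odd orders, orthogonal to symplectic -/
theorem odd_o_to_sp (h2 : (2 : F) ≠ 0) {n : ℕ} (hn : 1 ≤ n) (hdim : finrank F V = 2 * n + 1)
    {x y : Module.End F V} (hx : QIso Q x) (hy : QIso Q y) (hc : Commute y x) {m : ℕ}
    (hm : x ^ m = 1) (hodd : Odd m) (hmF : (m : F) ≠ 0) {M : ℕ} (hM : Odd M)
    (hord : ∀ j : ℕ, resM hc ^ j = 1 ↔ M ∣ j) :
    M ∈ Set.range (orderOf : Cfsg.PSp n F → ℕ) := by
  obtain ⟨A, hA, hnd, hpres⟩ := transfer_alt h2 Q hQ hx hm hodd hmF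
  obtain ⟨k, hk⟩ := AltForm.even_finrank_of_nondegenerate hA hnd
  have hle : finrank F ↥(movS x) ≤ finrank F V := Submodule.finrank_le _
  exact psp_pad_one hn A hA hnd (d := n - k) (by omega) (resM hc) (hpres y hy hc) hM hord

/-- small support: orders `p s` and `2 s` -/
theorem small_o_to_sp (p : ℕ) [hp : Fact p.Prime] [CharP F p] (h2 : (2 : F) ≠ 0) {n : ℕ}
    (hn : 1 ≤ n) {x : Module.End F V} (hx : QIso Q x) {s : ℕ} (hs : s.Prime) (hsodd : Odd s)
    (hsF : (s : F) ≠ 0) (hord : ∀ j : ℕ, x ^ j = 1 ↔ s ∣ j)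
    (hsmall : finrank F ↥(movS x) + 2 ≤ 2 * n) :
    p * s ∈ Set.range (orderOf : Cfsg.PSp n F → ℕ) ∧
      2 * s ∈ Set.range (orderOf : Cfsg.PSp n F → ℕ) := by
  have hm : x ^ s = 1 := (hord s).2 dvd_rfl
  obtain ⟨A, hA, hnd, hpres⟩ := transfer_alt h2 Q hQ hx hm hsodd hsF
  obtain ⟨k, hk⟩ := AltForm.even_finrank_of_nondegenerate hA hnd
  have hord' : ∀ j : ℕ, resM (Commute.refl x) ^ j = 1 ↔ s ∣ j := by
    intro j
    rw [resM_self_pow_eq_one_iff hm hsF, hord]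
  have hsp : Nat.Coprime p s := by
    rw [Nat.coprime_primes hp.out hs]
    rintro rfl
    exact hsF (CharP.cast_eq_zero F p)
  constructor
  · exact psp_pad_unip p h2 hn A hA hnd (d := n - k) (by omega) (by omega)
      (resM (Commute.refl x)) (hpres x hx _) hsodd hsp hord'
  · exact psp_pad_neg h2 hn A hA hnd (d := n - k) (by omega) (by omega)
      (resM (Commute.refl x)) (hpres x hx _) hsodd hs.one_lt hord'

end OtoSp

section SptoO

variable (B : LinearMap.BilinForm F V) (hB : B.IsAlt) (hnd : ∀ a, (∀ b, B a b = 0) → a = 0)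

include hB hnd

/-- odd orders, symplectic to orthogonal -/
theorem odd_sp_to_o (hoddF : Odd (Fintype.card F)) {n : ℕ} (hn : 3 ≤ n)
    (hdim : finrank F V = 2 * n)
    {x y : Module.End F V} (hx : Pres B x) (hy : Pres B y) (hc : Commute y x) {m : ℕ}
    (hm : x ^ m = 1) (hodd : Odd m) (hmF : (m : F) ≠ 0) {M : ℕ} (hM : Odd M)
    (hord : ∀ j : ℕ, resM hc ^ j = 1 ↔ M ∣ j) :
    M ∈ Set.range (orderOf : Cfsg.POmega F (Cfsg.quadFormOdd n F) → ℕ) := by
  have h2 : (2 : F) ≠ 0 := two_ne_zero_of_odd_card hoddF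
  obtain ⟨Qw, hQw, hiso⟩ := transfer_symm h2 B hB hnd hx hm hodd hmF
  have hle : finrank F ↥(movS x) ≤ finrank F V := Submodule.finrank_le _
  exact pomega_pad_one hoddF hn Qw hQw (d := 2 * n + 1 - finrank F ↥(movS x)) (by omega)
    (resM hc) (QSq.of_odd (hiso y hy hc) ((hord M).2 dvd_rfl) hM) hord

/-- small support: orders `p s` and `2 s` -/
theorem small_sp_to_o (p : ℕ) [hp : Fact p.Prime] [CharP F p] (hoddF : Odd (Fintype.card F))
    {n : ℕ} (hn : 3 ≤ n) {x : Module.End F V} (hx : Pres B x) {s : ℕ} (hs : s.Prime)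
    (hsodd : Odd s) (hsF : (s : F) ≠ 0) (hord : ∀ j : ℕ, x ^ j = 1 ↔ s ∣ j)
    (hsmall : finrank F ↥(movS x) + 2 ≤ 2 * n) :
    p * s ∈ Set.range (orderOf : Cfsg.POmega F (Cfsg.quadFormOdd n F) → ℕ) ∧
      2 * s ∈ Set.range (orderOf : Cfsg.POmega F (Cfsg.quadFormOdd n F) → ℕ) := by
  have h2 : (2 : F) ≠ 0 := two_ne_zero_of_odd_card hoddF
  have hm : x ^ s = 1 := (hord s).2 dvd_rfl
  obtain ⟨Qw, hQw, hiso⟩ := transfer_symm h2 B hB hnd hx hm hsodd hsF
  have hord' : ∀ j : ℕ, resM (Commute.refl x) ^ j = 1 ↔ s ∣ j := by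
    intro j
    rw [resM_self_pow_eq_one_iff hm hsF, hord]
  have hsp : Nat.Coprime p s := by
    rw [Nat.coprime_primes hp.out hs]
    rintro rfl
    exact hsF (CharP.cast_eq_zero F p)
  have hsq : QSq Qw (resM (Commute.refl x)) :=
    QSq.of_odd (hiso x hx _) ((hord' s).2 dvd_rfl) hsodd
  constructor
  · exact pomega_pad_sieg p hoddF hn Qw hQw (d := 2 * n + 1 - finrank F ↥(movS x) - 3) (by omega)
      (resM (Commute.refl x)) hsq hsp hord'
  · exact pomega_pad_neg hoddF hn Qw hQw (d := 2 * n + 1 - finrank F ↥(movS x) - 2) (by omega)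
      (resM (Commute.refl x)) hsq hsodd hord'

end SptoO

end Cfsg.Agent.Lib.Helper5.PGBC
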