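import Mathlib
import Cfsg.Agent.Lib.Helper5.PGBC.Cases1
import Cfsg.Agent.Lib.Helper5.SpecBC.Core4

/-!
Cases of two odd primes: abstract versions.
-/

set_option autoImplicit false

namespace Cfsg.Agent.Lib.Helper5.PGBC

open Module QuadraticMap Cfsg.Agent.Lib.Helper5.SpecBC

theorem pow_eq_one_iff_two_primes {M : Type*} [Monoid M] {a : M} {p s : ℕ} (hp : p.Prime)
    (hs : s.Prime) (hps : p ≠ s) (h1 : a ^ (p * s) = 1) (h2 : a ^ p ≠ 1) (h3 : a ^ s ≠ 1) (j : ℕ) :
    a ^ j = 1 ↔ p * s ∣ j := by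
  have ho : orderOf a ∣ p * s := orderOf_dvd_of_pow_eq_one h1
  have hpo : p ∣ orderOf a := by
    by_contra hnot
    have hc : Nat.Coprime (orderOf a) p := ((Nat.Prime.coprime_iff_not_dvd hp).2 hnot).symm
    exact h3 (orderOf_dvd_iff_pow_eq_one.1 (hc.dvd_of_dvd_mul_left ho))
  have hso : s ∣ orderOf a := by
    by_contra hnot
    have hc : Nat.Coprime (orderOf a) s := ((Nat.Prime.coprime_iff_not_dvd hs).2 hnot).symm
    exact h2 (orderOf_dvd_iff_pow_eq_one.1 (hc.dvd_of_dvd_mul_right ho))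
  have hcop : Nat.Coprime p s := (Nat.coprime_primes hp hs).2 hps
  have heq : orderOf a = p * s :=
    Nat.dvd_antisymm ho (Nat.Coprime.mul_dvd_of_dvd_of_dvd hcop hpo hso)
  rw [← heq, orderOf_dvd_iff_pow_eq_one]

variable {F : Type*} [Field F] [Fintype F] {V : Type*} [AddCommGroup V] [Module F V]
  [FiniteDimensional F V]

theorem pow_pow_eq_one_iff {G : Module.End F V} {p s : ℕ} (hp : 0 < p)
    (hord : ∀ j : ℕ, G ^ j = 1 ↔ p * s ∣ j) (j : ℕ) : (G ^ p) ^ j = 1 ↔ s ∣ j := by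
  rw [← pow_mul, hord]
  exact Nat.mul_dvd_mul_iff_left hp

section OtoSp

variable (Q : QuadraticForm F V) (hQ : (polarBilin Q).Nondegenerate)

include hQ

theorem caseA_o_abs (h2 : (2 : F) ≠ 0) {n : ℕ} (hn : 1 ≤ n) (hdim : finrank F V = 2 * n + 1)
    {G : Module.End F V} (hG : QIso Q G) {M : ℕ} (hM : Odd M) (hMF : (M : F) ≠ 0)
    (hord : ∀ j : ℕ, G ^ j = 1 ↔ M ∣ j) :
    M ∈ Set.range (orderOf : Cfsg.PSp n F → ℕ) := by
  have hm : G ^ M = 1 := (hord M).2 dvd_rfl
  apply odd_o_to_sp Q hQ h2 hn hdim hG hG (Commute.refl G) hm hM hMF hM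
  intro j
  rw [resM_self_pow_eq_one_iff hm hMF, hord]

theorem caseB_o_abs (p : ℕ) [hp : Fact p.Prime] [CharP F p] (h2 : (2 : F) ≠ 0) {n : ℕ}
    (hn : 1 ≤ n) (hdim : finrank F V = 2 * n + 1)
    {G : Module.End F V} (hG : QIso Q G) {s : ℕ} (hs : s.Prime) (hsodd : Odd s)
    (hsF : (s : F) ≠ 0) (hord : ∀ j : ℕ, G ^ j = 1 ↔ p * s ∣ j) :
    p * s ∈ Set.range (orderOf : Cfsg.PSp n F → ℕ) := by
  have hps : p ≠ s := by
    rintro rfl
    exact hsF (CharP.cast_eq_zero F p)
  have hpodd : Odd p := by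
    rcases hp.out.eq_two_or_odd' with h | h
    · exfalso
      apply h2
      have := CharP.cast_eq_zero F p
      rw [h] at this
      exact_mod_cast this
    · exact h
  set x := G ^ p with hxdef
  have hxord : ∀ j : ℕ, x ^ j = 1 ↔ s ∣ j := pow_pow_eq_one_iff hp.out.pos hord
  have hxs : x ^ s = 1 := (hxord s).2 dvd_rfl
  have hx : QIso Q x := hG.pow p
  have hc : Commute G x := (Commute.refl G).pow_right p
  by_cases hcase : resM hc ^ s = 1
  · -- `G ^ s` is trivial on `[V, x]`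
    have hu : (G ^ s) ^ p = 1 := by
      rw [← pow_mul, hord, mul_comm]
    have hcu : Commute (G ^ s) x := ((Commute.refl G).pow_left s).pow_right p
    have hu1 : G ^ s ≠ 1 := by
      intro h
      rw [hord] at h
      have h3 : p ∣ 1 := by
        have h4 : p * s ∣ 1 * s := by rwa [one_mul]
        exact (Nat.mul_dvd_mul_iff_right hs.pos).1 h4
      exact hp.out.one_lt.ne' (Nat.dvd_one.1 h3)
    have hmov : ∀ w ∈ movS x, (G ^ s) w = w := (resM_pow_eq_one_iff hc s).1 hcase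
    have hfix : 2 ≤ finrank F ↥(fixS x) := by
      by_contra hlt
      apply hu1
      rw [eq_one_iff_fix_mov hxs hsF]
      refine ⟨?_, hmov⟩
      have hne : fixS x ≠ ⊥ := by
        intro hbot
        have h3 := finrank_fix_add_mov x
        rw [hbot, finrank_bot, zero_add] at h3
        have h4 := even_finrank_movS_orth h2 Q hQ hx hxs hsodd hsF
        rw [h3, hdim] at h4
        exact (Nat.not_even_iff_odd.2 ⟨n, rfl⟩) h4
      obtain ⟨v, hv, hv0, huv⟩ := exists_fix_ne_zero p hu (fixS x)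
        (fun a ha => map_mem_fixS hcu ha) hne
      have h1 : finrank F ↥(fixS x) = 1 := by
        have : 0 < finrank F ↥(fixS x) := by
          rw [Module.finrank_pos_iff_exists_ne_zero]
          exact ⟨⟨v, hv⟩, fun h => hv0 (congrArg Subtype.val h)⟩
        omega
      intro a ha
      obtain ⟨c, hc'⟩ := (finrank_eq_one_iff_of_nonzero' (⟨v, hv⟩ : ↥(fixS x))
        (fun h => hv0 (congrArg Subtype.val h))).1 h1 ⟨a, ha⟩
      have h3 : a = c • v := by
        have := congrArg Subtype.val hc'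
        simpa using this.symm
      rw [h3, map_smul, huv]
    have hsum := finrank_fix_add_mov x
    have hev := even_finrank_movS_orth h2 Q hQ hx hxs hsodd hsF
    obtain ⟨k, hk⟩ := hev
    exact (small_o_to_sp Q hQ p h2 hn hx hs hsodd hsF hxord (by omega)).1
  · have hps1 : resM hc ^ (p * s) = 1 := by
      rw [resM_pow_eq_one_iff]
      intro w _
      rw [(hord (p * s)).2 dvd_rfl]
      rfl
    have hp1 : resM hc ^ p ≠ 1 := by
      intro h
      rw [resM_pow_eq_one_iff] at h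
      have h3 : x ^ 1 = 1 := by
        rw [pow_one, eq_one_iff_fix_mov hxs hsF]
        exact ⟨fun a ha => mem_fixS.1 ha, h⟩
      rw [hxord] at h3
      exact hs.one_lt.ne' (Nat.dvd_one.1 h3)
    exact odd_o_to_sp Q hQ h2 hn hdim hx hG hc hxs hsodd hsF (hpodd.mul hsodd)
      (pow_eq_one_iff_two_primes hp.out hs hps hps1 hp1 hcase)

end OtoSp

section SptoO

variable (B : LinearMap.BilinForm F V) (hB : B.IsAlt) (hnd : ∀ a, (∀ b, B a b = 0) → a = 0)

include hB hnd

theorem caseA_sp_abs (hoddF : Odd (Fintype.card F)) {n : ℕ} (hn : 3 ≤ n)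
    (hdim : finrank F V = 2 * n)
    {G : Module.End F V} (hG : Pres B G) {M : ℕ} (hM : Odd M) (hMF : (M : F) ≠ 0)
    (hord : ∀ j : ℕ, G ^ j = 1 ↔ M ∣ j) :
    M ∈ Set.range (orderOf : Cfsg.POmega F (Cfsg.quadFormOdd n F) → ℕ) := by
  have hm : G ^ M = 1 := (hord M).2 dvd_rfl
  apply odd_sp_to_o B hB hnd hoddF hn hdim hG hG (Commute.refl G) hm hM hMF hM
  intro j
  rw [resM_self_pow_eq_one_iff hm hMF, hord]

theorem caseB_sp_abs (p : ℕ) [hp : Fact p.Prime] [CharP F p] (hoddF : Odd (Fintype.card F))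
    {n : ℕ} (hn : 3 ≤ n) (hdim : finrank F V = 2 * n)
    {G : Module.End F V} (hG : Pres B G) {s : ℕ} (hs : s.Prime) (hsodd : Odd s)
    (hsF : (s : F) ≠ 0) (hord : ∀ j : ℕ, G ^ j = 1 ↔ p * s ∣ j) :
    p * s ∈ Set.range (orderOf : Cfsg.POmega F (Cfsg.quadFormOdd n F) → ℕ) := by
  have h2 : (2 : F) ≠ 0 := two_ne_zero_of_odd_card hoddF
  have hps : p ≠ s := by
    rintro rfl
    exact hsF (CharP.cast_eq_zero F p)
  have hpodd : Odd p := by
    rcases hp.out.eq_two_or_odd' with h | h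
    · exfalso
      apply h2
      have := CharP.cast_eq_zero F p
      rw [h] at this
      exact_mod_cast this
    · exact h
  set x := G ^ p with hxdef
  have hxord : ∀ j : ℕ, x ^ j = 1 ↔ s ∣ j := pow_pow_eq_one_iff hp.out.pos hord
  have hxs : x ^ s = 1 := (hxord s).2 dvd_rfl
  have hx : Pres B x := hG.pow p
  have hc : Commute G x := (Commute.refl G).pow_right p
  by_cases hcase : resM hc ^ s = 1
  · have hu1 : G ^ s ≠ 1 := by
      intro h
      rw [hord] at h
      have h3 : p ∣ 1 := by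
        have h4 : p * s ∣ 1 * s := by rwa [one_mul]
        exact (Nat.mul_dvd_mul_iff_right hs.pos).1 h4
      exact hp.out.one_lt.ne' (Nat.dvd_one.1 h3)
    have hmov : ∀ w ∈ movS x, (G ^ s) w = w := (resM_pow_eq_one_iff hc s).1 hcase
    have hfix : 2 ≤ finrank F ↥(fixS x) := by
      obtain ⟨k, hk⟩ := even_finrank_fixS_alt B hB hnd hx hxs hsF
      by_contra hlt
      apply hu1
      rw [eq_one_iff_fix_mov hxs hsF]
      refine ⟨?_, hmov⟩
      have h0 : finrank F ↥(fixS x) = 0 := by omega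
      have hbot : fixS x = ⊥ := Submodule.finrank_eq_zero.1 h0
      intro a ha
      rw [hbot, Submodule.mem_bot] at ha
      rw [ha, map_zero]
    have hsum := finrank_fix_add_mov x
    exact (small_sp_to_o B hB hnd p hoddF hn hx hs hsodd hsF hxord (by omega)).1
  · have hps1 : resM hc ^ (p * s) = 1 := by
      rw [resM_pow_eq_one_iff]
      intro w _
      rw [(hord (p * s)).2 dvd_rfl]
      rfl
    have hp1 : resM hc ^ p ≠ 1 := by
      intro h
      rw [resM_pow_eq_one_iff] at h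
      have h3 : x ^ 1 = 1 := by
        rw [pow_one, eq_one_iff_fix_mov hxs hsF]
        exact ⟨fun a ha => mem_fixS.1 ha, h⟩
      rw [hxord] at h3
      exact hs.one_lt.ne' (Nat.dvd_one.1 h3)
    exact odd_sp_to_o B hB hnd hoddF hn hdim hx hG hc hxs hsodd hsF (hpodd.mul hsodd)
      (pow_eq_one_iff_two_primes hp.out hs hps hps1 hp1 hcase)

end SptoO

end Cfsg.Agent.Lib.Helper5.PGBC
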