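import Mathlib
import Cfsg.Agent.Lib.Helper5.PGBC.Quad

/-!
For commuting isometries `x` and `t` with `t² = 1`, the map `x₊` acting as `x` on `C_V(t)` and
trivially on `[V, t]` is an isometry.
-/

set_option autoImplicit false

namespace Cfsg.Agent.Lib.Helper5.PGBC

open Module QuadraticMap Cfsg.Agent.Lib.Helper5.SpecBC

variable {F : Type*} [Field F] {V : Type*} [AddCommGroup V] [Module F V]

/-- projection onto the fixed space of an involution -/
noncomputable def ep (t : Module.End F V) : Module.End F V := (2 : F)⁻¹ • (1 + t)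

theorem ep_apply (t : Module.End F V) (a : V) : ep t a = (2 : F)⁻¹ • (a + t a) := rfl

theorem t_ep {t : Module.End F V} (ht : t * t = 1) (a : V) : t (ep t a) = ep t a := by
  rw [ep_apply, map_smul, map_add, ← Module.End.mul_apply, ht, Module.End.one_apply, add_comm]

theorem ep_of_fix (h2 : (2 : F) ≠ 0) {t : Module.End F V} {a : V} (ha : t a = a) :
    ep t a = a := by
  rw [ep_apply, ha, ← two_smul F a, smul_smul, inv_mul_cancel₀ h2, one_smul]

theorem ep_of_neg {t : Module.End F V} {a : V} (ha : t a = -a) : ep t a = 0 := by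
  rw [ep_apply, ha, add_neg_cancel, smul_zero]

theorem ep_add_ep (h2 : (2 : F) ≠ 0) (t : Module.End F V) (a : V) :
    ep t a + ep t a = a + t a := by
  rw [ep_apply, ← add_smul]
  have : (2 : F)⁻¹ + (2 : F)⁻¹ = 1 := by
    rw [← two_mul, mul_inv_cancel₀ h2]
  rw [this, one_smul]

theorem t_sub_ep (h2 : (2 : F) ≠ 0) {t : Module.End F V} (ht : t * t = 1) (a : V) :
    t (a - ep t a) = -(a - ep t a) := by
  rw [map_sub, t_ep ht, neg_sub, sub_eq_sub_iff_add_eq_add, ep_add_ep h2, add_comm]

theorem commute_ep {x t : Module.End F V} (hc : Commute x t) : Commute x (ep t) := by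
  unfold ep
  exact ((Commute.one_right x).add_right hc).smul_right _

/-- the map `x₊` -/
noncomputable def xp (x t : Module.End F V) : Module.End F V := 1 + (x - 1) * ep t

theorem xp_apply (x t : Module.End F V) (a : V) : xp x t a = a + (x (ep t a) - ep t a) := rfl

theorem xp_of_fix (h2 : (2 : F) ≠ 0) {x t : Module.End F V} {a : V} (ha : t a = a) :
    xp x t a = x a := by
  rw [xp_apply, ep_of_fix h2 ha]
  abel

theorem xp_of_neg {x t : Module.End F V} {a : V} (ha : t a = -a) : xp x t a = a := by
  rw [xp_apply, ep_of_neg ha, map_zero, sub_zero, add_zero]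

theorem xp_decomp (h2 : (2 : F) ≠ 0) {x t : Module.End F V} (ht : t * t = 1) (a : V) :
    xp x t a = x (ep t a) + (a - ep t a) := by
  rw [xp_apply]
  abel

theorem xp_pow (h2 : (2 : F) ≠ 0) {x t : Module.End F V} (ht : t * t = 1) (hc : Commute x t)
    (j : ℕ) : xp x t ^ j = xp (x ^ j) t := by
  induction j with
  | zero =>
    rw [pow_zero, pow_zero]
    unfold xp
    rw [sub_self, zero_mul, add_zero]
  | succ k ih =>
    rw [pow_succ, ih]
    apply LinearMap.ext
    intro a
    rw [Module.End.mul_apply]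
    have h1 : ep t (x (ep t a)) = x (ep t a) := by
      apply ep_of_fix h2
      rw [← Module.End.mul_apply, ← hc.eq, Module.End.mul_apply, t_ep ht]
    have h3 : ep t (a - ep t a) = 0 := ep_of_neg (t_sub_ep h2 ht a)
    have hb : xp x t a = x (ep t a) + (a - ep t a) := xp_decomp h2 ht a
    have h4 : ep t (xp x t a) = x (ep t a) := by
      rw [hb, map_add, h1, h3, add_zero]
    rw [xp_decomp h2 ht (x := x ^ k), h4, xp_decomp h2 ht (x := x ^ (k + 1)), hb, pow_succ,
      Module.End.mul_apply]
    abel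

theorem bil_fix_neg (h2 : (2 : F) ≠ 0) {B : LinearMap.BilinForm F V} {t : Module.End F V}
    (ht : Pres B t) {c d : V} (hc : t c = c) (hd : t d = -d) : B c d = 0 ∧ B d c = 0 := by
  have h1 := ht c d
  rw [hc, hd, map_neg] at h1
  have h3 := ht d c
  rw [hc, hd, map_neg, LinearMap.neg_apply] at h3
  constructor
  · have h4 : (2 : F) * B c d = 0 := by linear_combination -h1
    rcases mul_eq_zero.1 h4 with h | h
    · exact absurd h h2
    · exact h
  · have h4 : (2 : F) * B d c = 0 := by linear_combination -h3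
    rcases mul_eq_zero.1 h4 with h | h
    · exact absurd h h2
    · exact h

theorem xp_pres (h2 : (2 : F) ≠ 0) {B : LinearMap.BilinForm F V} {x t : Module.End F V}
    (hx : Pres B x) (ht : Pres B t) (htt : t * t = 1) (hc : Commute x t) : Pres B (xp x t) := by
  intro a b
  rw [xp_decomp h2 htt, xp_decomp h2 htt]
  have hfa : t (x (ep t a)) = x (ep t a) := by
    rw [← Module.End.mul_apply, ← hc.eq, Module.End.mul_apply, t_ep htt]
  have hfb : t (x (ep t b)) = x (ep t b) := by
    rw [← Module.End.mul_apply, ← hc.eq, Module.End.mul_apply, t_ep htt]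
  have hna := t_sub_ep h2 htt a
  have hnb := t_sub_ep h2 htt b
  have e1 := (bil_fix_neg h2 ht hfa hnb).1
  have e2 := (bil_fix_neg h2 ht hfb hna).2
  have e3 := (bil_fix_neg h2 ht (t_ep htt a) hnb).1
  have e4 := (bil_fix_neg h2 ht (t_ep htt b) hna).2
  have ha : a = ep t a + (a - ep t a) := by abel
  have hb : b = ep t b + (b - ep t b) := by abel
  conv_rhs => rw [ha, hb]
  simp only [map_add, LinearMap.add_apply]
  rw [e1, e2, e3, e4, hx]

theorem xp_eq_one_iff (h2 : (2 : F) ≠ 0) {x t : Module.End F V} (htt : t * t = 1) :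
    xp x t = 1 ↔ ∀ a, t a = a → x a = a := by
  constructor
  · intro h a ha
    rw [← xp_of_fix h2 ha (x := x), h]
    rfl
  · intro h
    apply LinearMap.ext
    intro a
    rw [xp_apply, h _ (t_ep htt a), sub_self, add_zero]
    rfl

theorem movS_xp_le {x t : Module.End F V} (htt : t * t = 1) (hc : Commute x t) :
    movS (xp x t) ≤ movS x ⊓ fixS t := by
  intro v hv
  obtain ⟨a, rfl⟩ := mem_movS.1 hv
  have h1 : xp x t a - a = x (ep t a) - ep t a := by
    rw [xp_apply]
    abel
  rw [h1]
  refine ⟨mem_movS.2 ⟨ep t a, rfl⟩, ?_⟩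
  rw [SetLike.mem_coe, mem_fixS, map_sub, t_ep htt, ← Module.End.mul_apply, ← hc.eq,
    Module.End.mul_apply, t_ep htt]

theorem qiso_of_pres_polar (h2 : (2 : F) ≠ 0) {Q : QuadraticForm F V} {T : Module.End F V}
    (hT : Pres (polarBilin Q) T) : QIso Q T := by
  intro v
  have h1 := hT v v
  rw [polarBilin_apply_apply, polarBilin_apply_apply, polar_self, polar_self] at h1
  have h3 : (2 : F) * Q (T v) = (2 : F) * Q v := by
    rw [← smul_eq_mul, ← smul_eq_mul, two_smul, two_smul]
    rw [two_smul, two_smul] at h1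
    exact h1
  exact mul_left_cancel₀ h2 h3

theorem xp_qiso (h2 : (2 : F) ≠ 0) {Q : QuadraticForm F V} {x t : Module.End F V}
    (hx : QIso Q x) (ht : QIso Q t) (htt : t * t = 1) (hc : Commute x t) : QIso Q (xp x t) :=
  qiso_of_pres_polar h2 (xp_pres h2 hx.pres ht.pres htt hc)

end Cfsg.Agent.Lib.Helper5.PGBC
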