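import Mathlib
import Cfsg.Agent.Lib.Helper5.PGBC.CasesAB
import Cfsg.Agent.Lib.Helper5.PGBC.XPlus

/-!
The case `{2, s}`: from `PSp_{2n}` to `PΩ_{2n+1}`.
-/

set_option autoImplicit false

namespace Cfsg.Agent.Lib.Helper5.PGBC

open Module QuadraticMap Cfsg.Agent.Lib.Helper5.SpecBC

theorem pow_eq_one_iff_prime {M : Type*} [Monoid M] {a : M} {s : ℕ} (hs : s.Prime)
    (h1 : a ^ s = 1) (h2 : a ≠ 1) (j : ℕ) : a ^ j = 1 ↔ s ∣ j := by
  have : Fact s.Prime := ⟨hs⟩
  rw [← orderOf_eq_prime h1 h2, orderOf_dvd_iff_pow_eq_one]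

variable {F : Type*} [Field F] [Fintype F] {V : Type*} [AddCommGroup V] [Module F V]
  [FiniteDimensional F V]

omit [Fintype F] [FiniteDimensional F V] in
theorem one_ne_neg_one_end [Nontrivial V] (h2 : (2 : F) ≠ 0) : (1 : Module.End F V) ≠ -1 := by
  intro h
  obtain ⟨v, hv⟩ := exists_ne (0 : V)
  have h3 := congrArg (fun f : Module.End F V => f v) h
  simp only [Module.End.one_apply, LinearMap.neg_apply] at h3
  have h4 : (2 : F) • v = 0 := by
    rw [two_smul]
    nth_rewrite 1 [h3]
    exact neg_add_cancel v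
  rcases smul_eq_zero.1 h4 with h5 | h5
  · exact h2 h5
  · exact hv h5

omit [Fintype F] [FiniteDimensional F V] in
theorem neg_pow_eq_one_iff [Nontrivial V] (h2 : (2 : F) ≠ 0) {x : Module.End F V} {s : ℕ}
    (hsodd : Odd s) (hxord : ∀ j : ℕ, x ^ j = 1 ↔ s ∣ j) (j : ℕ) :
    (-x) ^ j = 1 ↔ 2 * s ∣ j := by
  have hne := one_ne_neg_one_end (F := F) (V := V) h2
  have hcop : Nat.Coprime 2 s := (Nat.coprime_two_left).2 hsodd
  rw [neg_pow]
  rcases Nat.even_or_odd j with hj | hj
  · rw [hj.neg_one_pow, one_mul, hxord]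
    constructor
    · intro h
      exact Nat.Coprime.mul_dvd_of_dvd_of_dvd hcop (even_iff_two_dvd.1 hj) h
    · intro h
      exact dvd_trans (Dvd.intro_left _ rfl) h
  · rw [hj.neg_one_pow]
    constructor
    · intro h
      exfalso
      have h3 : x ^ j = -1 := by
        have : x ^ j = -(-1 * x ^ j) := by simp
        rw [this, h]
      have h4 : (x ^ j) ^ s = 1 := by
        rw [← pow_mul, hxord]
        exact Dvd.intro_left _ rfl
      rw [h3, hsodd.neg_one_pow] at h4
      exact hne h4.symm
    · intro h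
      exfalso
      have : 2 ∣ j := dvd_trans (Dvd.intro _ rfl) h
      exact (Nat.not_even_iff_odd.2 hj) (even_iff_two_dvd.2 this)

variable (B : LinearMap.BilinForm F V) (hB : B.IsAlt) (hnd : ∀ a, (∀ b, B a b = 0) → a = 0)

include hB hnd

theorem caseC_sp_abs (p : ℕ) [hp : Fact p.Prime] [CharP F p] (hoddF : Odd (Fintype.card F))
    {n : ℕ} (hn : 3 ≤ n) (hdim : finrank F V = 2 * n)
    {G : Module.End F V} (hG : Pres B G) {s : ℕ} (hs : s.Prime) (hsodd : Odd s)
    (hsF : (s : F) ≠ 0) (hord : ∀ j : ℕ, (G ^ j = 1 ∨ G ^ j = -1) ↔ 2 * s ∣ j) :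
    2 * s ∈ Set.range (orderOf : Cfsg.POmega F (Cfsg.quadFormOdd n F) → ℕ) := by
  have h2 : (2 : F) ≠ 0 := two_ne_zero_of_odd_card hoddF
  have : Nontrivial V := by
    apply Module.nontrivial_of_finrank_pos (R := F)
    omega
  have hne := one_ne_neg_one_end (F := F) (V := V) h2
  have hG2s : G ^ (2 * s) = 1 ∨ G ^ (2 * s) = -1 := (hord _).2 dvd_rfl
  have hG4s : G ^ (4 * s) = 1 := by
    have h4 : 4 * s = (2 * s) * 2 := by ring
    rw [h4, pow_mul]
    rcases hG2s with h | h <;> rw [h] <;> simp
  have hcop4 : Nat.Coprime s 4 := by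
    have h3 : Nat.Coprime 2 s := (Nat.coprime_two_left).2 hsodd
    have h4 : Nat.Coprime (2 ^ 2) s := Nat.Coprime.pow_left 2 h3
    exact h4.symm
  have hs3 : 3 ≤ s := by
    have := hs.two_le
    obtain ⟨l, hl⟩ := hsodd
    omega
  set x := G ^ 4 with hxdef
  have hxord : ∀ j : ℕ, x ^ j = 1 ↔ s ∣ j := by
    intro j
    rw [← pow_mul]
    constructor
    · intro h
      have h3 : 2 * s ∣ 4 * j := (hord _).1 (Or.inl h)
      have h4 : s ∣ 4 * j := dvd_trans (Dvd.intro_left 2 rfl) h3
      exact hcop4.dvd_of_dvd_mul_left h4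
    · rintro ⟨c, rfl⟩
      rw [show 4 * (s * c) = (4 * s) * c by ring, pow_mul, hG4s, one_pow]
  have hxs : x ^ s = 1 := (hxord s).2 dvd_rfl
  have hx : Pres B x := hG.pow 4
  by_cases hsmall : finrank F ↥(movS x) + 2 ≤ 2 * n
  · exact (small_sp_to_o B hB hnd p hoddF hn hx hs hsodd hsF hxord hsmall).2
  · have hev := even_finrank_movS_alt B hB hnd hx hxs hsF
    have hle : finrank F ↥(movS x) ≤ finrank F V := Submodule.finrank_le _
    have hfull : finrank F ↥(movS x) = 2 * n := by
      obtain ⟨k, hk⟩ := hev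
      omega
    have htop : movS x = ⊤ := Submodule.eq_top_of_finrank_eq (by rw [hfull, hdim])
    set t := G ^ s with htdef
    have hct : Commute x t := ((Commute.refl G).pow_left 4).pow_right s
    have ht : Pres B t := hG.pow s
    have hnot : ¬ 2 * s ∣ s := by
      intro h
      have := Nat.le_of_dvd (by omega) h
      omega
    have ht1 : t ≠ 1 := fun h => hnot ((hord s).1 (Or.inl h))
    have htn1 : t ≠ -1 := fun h => hnot ((hord s).1 (Or.inr h))
    have htt : t * t = 1 ∨ t * t = -1 := by
      rw [← pow_add, ← two_mul]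
      exact hG2s
    rcases htt with htt | htt
    · -- an involution
      set y := xp x t with hydef
      have hy : Pres B y := xp_pres h2 hx ht htt hct
      have hyord : ∀ j : ℕ, y ^ j = 1 ↔ s ∣ j := by
        intro j
        rw [xp_pow h2 htt hct, xp_eq_one_iff h2 htt]
        constructor
        · intro h
          by_contra hnd'
          have hfix0 : ∀ a, t a = a → a = 0 := by
            intro a ha
            exact eq_zero_of_pow_fix hs hxs hsF (by rw [htop]; trivial) hnd' (h a ha)
          apply htn1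
          apply LinearMap.ext
          intro a
          have h3 := hfix0 (a + t a) (by
            rw [map_add, ← Module.End.mul_apply, htt, Module.End.one_apply, add_comm])
          rw [LinearMap.neg_apply, Module.End.one_apply]
          exact eq_neg_of_add_eq_zero_right h3
        · intro h a _
          rw [(hxord j).2 h]
          rfl
      have hysmall : finrank F ↥(movS y) + 2 ≤ 2 * n := by
        have hev' := even_finrank_movS_alt B hB hnd hy ((hyord s).2 dvd_rfl) hsF
        have hle' : movS y ≤ fixS t := le_trans (movS_xp_le htt hct) inf_le_right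
        have hlt : finrank F ↥(fixS t) < finrank F V := by
          apply Submodule.finrank_lt
          intro htop'
          apply ht1
          apply LinearMap.ext
          intro a
          have : a ∈ fixS t := by rw [htop']; trivial
          exact mem_fixS.1 this
        have h3 := Submodule.finrank_mono hle'
        obtain ⟨k, hk⟩ := hev'
        omega
      exact (small_sp_to_o B hB hnd p hoddF hn hy hs hsodd hsF hyord hysmall).2
    · -- `t² = -1`
      let S : LinearMap.BilinForm F V := B.compLeft t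
      have hSapp : ∀ a b, S a b = B (t a) b := fun a b => rfl
      have htta : ∀ a, t (t a) = -a := by
        intro a
        rw [← Module.End.mul_apply, htt]
        rfl
      have hSsymm : ∀ a b, S b a = S a b := by
        intro a b
        rw [hSapp, hSapp, ← hB.neg_eq, ← ht a (t b), htta, map_neg, neg_neg]
      have hSnd : ∀ a, (∀ b, S a b = 0) → a = 0 := by
        intro a ha
        have h3 : t a = 0 := hnd _ ha
        have h4 := htta a
        rw [h3, map_zero] at h4
        exact neg_eq_zero.1 h4.symm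
      have hSx : Pres S x := by
        intro a b
        rw [hSapp, hSapp, ← Module.End.mul_apply t x, ← hct.eq, Module.End.mul_apply, hx]
      have hSt : Pres S t := by
        intro a b
        rw [hSapp, hSapp, ht]
      have hQs := nondeg_toQuadraticMap h2 hSsymm hSnd
      obtain ⟨l, hl⟩ := hsodd
      have hS₀ : QIso (LinearMap.BilinMap.toQuadraticMap S) (x ^ (l + 1) * t) :=
        qiso_of_pres ((hSx.pow _).mul hSt)
      have hS₀sq : (x ^ (l + 1) * t) * (x ^ (l + 1) * t) = -x := by
        have hc' : Commute t (x ^ (l + 1)) := (hct.pow_left _).symm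
        have h3 : (x ^ (l + 1) * t) * (x ^ (l + 1) * t) = x ^ (l + 1) * x ^ (l + 1) * (t * t) := by
          rw [mul_assoc, ← mul_assoc t, hc'.eq, mul_assoc, ← mul_assoc]
        rw [h3, htt, ← pow_add]
        have h4 : l + 1 + (l + 1) = s + 1 := by omega
        rw [h4, pow_succ, hxs, one_mul, mul_neg, mul_one]
      exact pomega_pad_one hoddF hn (LinearMap.BilinMap.toQuadraticMap S) hQs (d := 1) (by omega)
        (-x) ⟨_, hS₀, hS₀sq⟩ (neg_pow_eq_one_iff h2 ⟨l, hl⟩ hxord)

end Cfsg.Agent.Lib.Helper5.PGBC
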