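import Mathlib
import Cfsg.Agent.Lib.Helper5.PGBC.CasesAB

/-!
The cases `{r, s}` odd and `{2, p}` of the comparison of prime graphs.
-/

set_option autoImplicit false

namespace Cfsg.Agent.Lib.Helper5.PGBC

open Module QuadraticMap Cfsg.Agent.Lib.Helper5.SpecBC Cfsg.Agent.Lib.Helper2
  Cfsg.Agent.Lib.Helper2.SpIsom

variable {F : Type*} [Field F] [Fintype F]

theorem finrank_odd_space (n : ℕ) : finrank F (Unit ⊕ (Fin n ⊕ Fin n) → F) = 2 * n + 1 := by
  rw [Module.finrank_fintype_fun_eq_card]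
  simp only [Fintype.card_sum, Fintype.card_unit, Fintype.card_fin]
  ring

theorem finrank_sp_space (n : ℕ) : finrank F (Fin n ⊕ Fin n → F) = 2 * n := by
  rw [Module.finrank_fintype_fun_eq_card]
  simp only [Fintype.card_sum, Fintype.card_fin]
  ring

theorem lin_pow_eq_one_iff {ι : Type} [Fintype ι] [DecidableEq ι] {Q : QuadraticForm F (ι → F)}
    (g : ↥(Cfsg.isometryGroup F ⇑Q)) (j : ℕ) : lin g ^ j = 1 ↔ orderOf g ∣ j := by
  rw [← lin_pow, ← lin_one, lin_injective.eq_iff, orderOf_dvd_iff_pow_eq_one]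

theorem slin_pow_eq_one_iff {n : ℕ} (g : Matrix.symplecticGroup (Fin n) F) (j : ℕ) :
    slin g ^ j = 1 ↔ orderOf g ∣ j := by
  rw [← slin_pow, slin_eq_one_iff, orderOf_dvd_iff_pow_eq_one]

theorem lin_qiso {ι : Type} [Fintype ι] [DecidableEq ι] {Q : QuadraticForm F (ι → F)}
    (g : ↥(Cfsg.isometryGroup F ⇑Q)) : QIso Q (lin g) := fun v => lin_Q g v

/-- two odd primes different from the characteristic, or more generally an odd order prime to
the characteristic -/
theorem caseA (hodd : Odd (Fintype.card F)) (n : ℕ) (hn : 3 ≤ n) {M : ℕ} (hM : Odd M)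
    (hMF : (M : F) ≠ 0) :
    M ∈ Set.range (orderOf : Cfsg.POmega F (Cfsg.quadFormOdd n F) → ℕ) ↔
      M ∈ Set.range (orderOf : Cfsg.PSp n F → ℕ) := by
  classical
  have h2 : (2 : F) ≠ 0 := two_ne_zero_of_odd_card hodd
  constructor
  · intro h
    obtain ⟨g, -, hg⟩ := exists_omega_of_pomega hodd n hn h
    apply caseA_o_abs (OrthCard.QOd n F) (OrthCard.QOd_nondeg h2 n) h2 (by omega)
      (finrank_odd_space n) (lin_qiso g) hM hMF
    intro j
    rw [lin_pow_eq_one_iff, hg]
  · intro h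
    rw [Cfsg.Agent.Lib.Helper5.PrimeGraph.orderOf_mem_range_psp_iff (by omega) M (Or.inl hM)] at h
    obtain ⟨g, hg⟩ := h
    apply caseA_sp_abs (sympBilin n F) sympBilin_isAlt sympBilin_nondeg' hodd hn
      (finrank_sp_space n) (slin_pres g) hM hMF
    intro j
    rw [slin_pow_eq_one_iff, hg]

/-- the characteristic and another odd prime -/
theorem caseB (p : ℕ) [hp : Fact p.Prime] [CharP F p] (hodd : Odd (Fintype.card F)) (n : ℕ)
    (hn : 3 ≤ n) {s : ℕ} (hs : s.Prime) (hsodd : Odd s) (hsF : (s : F) ≠ 0) :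
    p * s ∈ Set.range (orderOf : Cfsg.POmega F (Cfsg.quadFormOdd n F) → ℕ) ↔
      p * s ∈ Set.range (orderOf : Cfsg.PSp n F → ℕ) := by
  classical
  have h2 : (2 : F) ≠ 0 := two_ne_zero_of_odd_card hodd
  have hpodd : Odd p := by
    rcases hp.out.eq_two_or_odd' with h | h
    · exfalso
      apply h2
      have := CharP.cast_eq_zero F p
      rw [h] at this
      exact_mod_cast this
    · exact h
  constructor
  · intro h
    obtain ⟨g, -, hg⟩ := exists_omega_of_pomega hodd n hn h
    apply caseB_o_abs (OrthCard.QOd n F) (OrthCard.QOd_nondeg h2 n) p h2 (by omega)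
      (finrank_odd_space n) (lin_qiso g) hs hsodd hsF
    intro j
    rw [lin_pow_eq_one_iff, hg]
  · intro h
    rw [Cfsg.Agent.Lib.Helper5.PrimeGraph.orderOf_mem_range_psp_iff (by omega) (p * s)
      (Or.inl (hpodd.mul hsodd))] at h
    obtain ⟨g, hg⟩ := h
    apply caseB_sp_abs (sympBilin n F) sympBilin_isAlt sympBilin_nondeg' p hodd hn
      (finrank_sp_space n) (slin_pres g) hs hsodd hsF
    intro j
    rw [slin_pow_eq_one_iff, hg]

/-- the characteristic and two: both groups have elements of order `2 p` -/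
theorem caseD (p : ℕ) [hp : Fact p.Prime] [CharP F p] (hodd : Odd (Fintype.card F)) (n : ℕ)
    (hn : 3 ≤ n) :
    2 * p ∈ Set.range (orderOf : Cfsg.POmega F (Cfsg.quadFormOdd n F) → ℕ) ∧
      2 * p ∈ Set.range (orderOf : Cfsg.PSp n F → ℕ) := by
  have h2 : (2 : F) ≠ 0 := two_ne_zero_of_odd_card hodd
  have hpodd : Odd p := by
    rcases hp.out.eq_two_or_odd' with h | h
    · exfalso
      apply h2
      have := CharP.cast_eq_zero F p
      rw [h] at this
      exact_mod_cast this
    · exact h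
  constructor
  · have hsq : QSq (q3 F) (sieg F) := by
      apply QSq.of_odd (sieg_qiso F) (m := p) _ hpodd
      rw [sieg_pow_eq_one_iff, CharP.cast_eq_zero]
    apply pomega_pad_neg hodd hn (q3 F) (q3_nondeg F h2) (d := 2 * n - 4)
      (by rw [finrank_three]; omega) (sieg F) hsq hpodd
    intro j
    rw [sieg_pow_eq_one_iff, CharP.cast_eq_zero_iff F p]
  · apply psp_pad_neg h2 (by omega) (aPad F 1) (aPad_isAlt F 1) (aPad_nondeg F 1) (d := n - 1)
      (by omega) (by rw [finrank_aPad]; omega) (uPi F 1) (uPi_pres F 1) hpodd hp.out.one_lt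
    intro j
    rw [uPi_pow_eq_one_iff F 1 one_pos, CharP.cast_eq_zero_iff F p]

end Cfsg.Agent.Lib.Helper5.PGBC
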