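import Mathlib
import Cfsg.Agent.Lib.Helper5.PGBC.IfaceSp
import Cfsg.Agent.Lib.Helper5.SylTor6

/-!
Elements of order `2N` in `PSp_{2n}(q)` coming from the cyclic tori of orders `q^n - 1` and
`q^n + 1`, when `4N` divides their order.
-/

set_option autoImplicit false

namespace Cfsg.Agent.Lib.Helper5.PGBC

open Module Cfsg.Agent.Lib.Helper5.SylTor

section general

variable {K : Type*} [Field K]

theorem exists_unit_orderOf [Finite K] {m : ℕ} (hm : m ∣ Nat.card Kˣ) :
    ∃ ζ : Kˣ, orderOf ζ = m := by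
  obtain ⟨γ, hγ⟩ := IsCyclic.exists_ofOrder_eq_natCard (α := Kˣ)
  obtain ⟨c, hc⟩ := hm
  have hpos : 0 < Nat.card Kˣ := Nat.card_pos
  have hc0 : c ≠ 0 := by
    rintro rfl
    omega
  have hm0 : 0 < m := by
    rcases Nat.eq_zero_or_pos m with h | h
    · rw [h, zero_mul] at hc; omega
    · exact h
  refine ⟨γ ^ c, ?_⟩
  rw [orderOf_pow_of_dvd hc0 (by rw [hγ, hc]; exact Dvd.intro_left _ rfl), hγ, hc,
    Nat.mul_div_cancel _ (Nat.pos_of_ne_zero hc0)]

theorem unit_pow_pm_one_iff {ζ : Kˣ} {N : ℕ} (hN : 0 < N) (hζ : orderOf ζ = 4 * N) (j : ℕ) :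
    (((ζ ^ j : Kˣ) : K) = 1 ∨ ((ζ ^ j : Kˣ) : K) = -1) ↔ 2 * N ∣ j := by
  rw [← mul_self_eq_one_iff, ← Units.val_mul, ← pow_add, ← two_mul, Units.val_eq_one,
    ← orderOf_dvd_iff_pow_eq_one, hζ]
  have : 4 * N = 2 * (2 * N) := by ring
  rw [this]
  exact Nat.mul_dvd_mul_iff_left (by norm_num)

end general

variable {F : Type*} [Field F] [Fintype F]

theorem psp_torus_split (p : ℕ) [hp : Fact p.Prime] [CharP F p] (n : ℕ) (hn : 1 ≤ n) {N : ℕ}
    (hN : 0 < N) (hdvd : 4 * N ∣ Fintype.card F ^ n - 1) :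
    2 * N ∈ Set.range (orderOf : Cfsg.PSp n F → ℕ) := by
  classical
  have : NeZero n := ⟨by omega⟩
  let K := FiniteField.Extension F p n
  have : Fintype K := Fintype.ofFinite K
  have hfin : finrank F K = n := FiniteField.finrank_extension F p n
  have hKcard : Nat.card K = Fintype.card F ^ n := by
    rw [FiniteField.natCard_extension, Nat.card_eq_fintype_card]
  have hunits : Nat.card Kˣ = Fintype.card F ^ n - 1 := by
    rw [Nat.card_units, hKcard]
  obtain ⟨ζ, hζ⟩ := exists_unit_orderOf (K := K) (m := 4 * N) (by rw [hunits]; exact hdvd)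
  let T : Module.End F (K × K) :=
    LinearMap.prodMap (LinearMap.mulLeft F ((ζ : Kˣ) : K)) (LinearMap.mulLeft F ((ζ⁻¹ : Kˣ) : K))
  have hTapply : ∀ w : K × K, T w = (((ζ : Kˣ) : K) * w.1, ((ζ⁻¹ : Kˣ) : K) * w.2) := by
    intro w
    rfl
  have hTpow : ∀ (j : ℕ) (w : K × K),
      (T ^ j) w = (((ζ ^ j : Kˣ) : K) * w.1, (((ζ⁻¹) ^ j : Kˣ) : K) * w.2) := by
    intro j
    induction j with
    | zero => intro w; simp
    | succ k ih =>
      intro w
      rw [pow_succ, Module.End.mul_apply, hTapply, ih]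
      apply Prod.ext
      · simp only [pow_succ, Units.val_mul]; ring
      · simp only [pow_succ, Units.val_mul]; ring
  have hTpres : Pres (hypForm F K) T := by
    intro x y
    simp only [hypForm_apply, hTapply]
    have h1 : ((ζ : Kˣ) : K) * x.1 * (((ζ⁻¹ : Kˣ) : K) * y.2) = x.1 * y.2 := by
      rw [mul_mul_mul_comm, Units.mul_inv, one_mul]
    have h2 : ((ζ⁻¹ : Kˣ) : K) * x.2 * (((ζ : Kˣ) : K) * y.1) = x.2 * y.1 := by
      rw [mul_mul_mul_comm, Units.inv_mul, one_mul]
    rw [h1, h2]
  have hdim : finrank F (K × K) = 2 * n := by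
    rw [Module.finrank_prod, hfin]
    ring
  apply psp_of_abstract hn (hypForm F K) (hypForm_isAlt F K) (hypForm_nondeg F K) hdim T hTpres
  intro j
  rw [← unit_pow_pm_one_iff hN hζ j]
  have hinv : (((ζ⁻¹) ^ j : Kˣ) : K) = (((ζ ^ j : Kˣ) : K))⁻¹ := by
    rw [inv_pow, Units.val_inv_eq_inv_val]
  constructor
  · rintro (h | h)
    · left
      have h3 := congrArg (fun f : Module.End F (K × K) => (f ((1 : K), (0 : K))).1) h
      simp only [hTpow] at h3
      simpa using h3
    · right
      have h3 := congrArg (fun f : Module.End F (K × K) => (f ((1 : K), (0 : K))).1) h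
      simp only [hTpow] at h3
      simpa using h3
  · rintro (h | h)
    · left
      apply LinearMap.ext
      intro w
      rw [hTpow, hinv, h]
      simp
    · right
      apply LinearMap.ext
      intro w
      rw [hTpow, hinv, h]
      simp only [inv_neg, inv_one, neg_one_mul, LinearMap.neg_apply, Module.End.one_apply]
      rfl

theorem psp_torus_nonsplit (p : ℕ) [hp : Fact p.Prime] [CharP F p] (n : ℕ) (hn : 1 ≤ n) {N : ℕ}
    (hN : 0 < N) (hdvd : 4 * N ∣ Fintype.card F ^ n + 1) :
    2 * N ∈ Set.range (orderOf : Cfsg.PSp n F → ℕ) := by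
  classical
  have : NeZero (2 * n) := ⟨by omega⟩
  let L := FiniteField.Extension F p (2 * n)
  have : Fintype L := Fintype.ofFinite L
  have hfin : finrank F L = 2 * n := FiniteField.finrank_extension F p (2 * n)
  have hq1 : 1 ≤ Fintype.card F ^ n := Nat.one_le_pow _ _ Fintype.card_pos
  have hLcard : Nat.card L = Fintype.card F ^ (2 * n) := by
    rw [FiniteField.natCard_extension, Nat.card_eq_fintype_card]
  have hunits : Nat.card Lˣ = (Fintype.card F ^ n - 1) * (Fintype.card F ^ n + 1) := by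
    rw [Nat.card_units, hLcard, two_mul, pow_add]
    have h2 : 1 ≤ Fintype.card F ^ n * Fintype.card F ^ n := Nat.mul_pos hq1 hq1
    zify [hq1, h2]
    ring
  obtain ⟨ζ, hζ⟩ := exists_unit_orderOf (K := L) (m := 4 * N)
    (by rw [hunits]; exact dvd_trans hdvd (Dvd.intro_left _ rfl))
  have hnorm : ((ζ : Lˣ) : L) * sig F L n ((ζ : Lˣ) : L) = 1 := by
    rw [sig_apply, ← pow_succ']
    have h3 : ζ ^ (Fintype.card F ^ n + 1) = 1 := by
      rw [← orderOf_dvd_iff_pow_eq_one, hζ]
      exact hdvd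
    have := congrArg (fun u : Lˣ => (u : L)) h3
    simpa using this
  obtain ⟨ε, hε0, hε⟩ := exists_eps (F := F) (L := L) (by omega : 0 < n) hfin
  let T : Module.End F L := LinearMap.mulLeft F ((ζ : Lˣ) : L)
  have hTapply : ∀ w : L, T w = ((ζ : Lˣ) : L) * w := fun w => rfl
  have hTpow : ∀ (j : ℕ) (w : L), (T ^ j) w = ((ζ ^ j : Lˣ) : L) * w := by
    intro j
    induction j with
    | zero => intro w; simp
    | succ k ih =>
      intro w
      rw [pow_succ, Module.End.mul_apply, hTapply, ih]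
      simp only [pow_succ, Units.val_mul]; ring
  have hTpres : Pres (nsForm (F := F) n ε) T := by
    intro x y
    simp only [nsForm_apply, hTapply, map_mul]
    have : ε * (((ζ : Lˣ) : L) * x) * (sig F L n ((ζ : Lˣ) : L) * sig F L n y) =
        (((ζ : Lˣ) : L) * sig F L n ((ζ : Lˣ) : L)) * (ε * x * sig F L n y) := by ring
    rw [this, hnorm, one_mul]
  apply psp_of_abstract hn (nsForm (F := F) n ε) (nsForm_isAlt hfin hε) (nsForm_nondeg hε0) hfin T
    hTpres
  intro j
  rw [← unit_pow_pm_one_iff hN hζ j]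
  constructor
  · rintro (h | h)
    · left
      have h3 := congrArg (fun f : Module.End F L => f (1 : L)) h
      simp only [hTpow] at h3
      simpa using h3
    · right
      have h3 := congrArg (fun f : Module.End F L => f (1 : L)) h
      simp only [hTpow] at h3
      simpa using h3
  · rintro (h | h)
    · left
      apply LinearMap.ext
      intro w
      rw [hTpow, h]
      simp
    · right
      apply LinearMap.ext
      intro w
      rw [hTpow, h]
      simp only [neg_one_mul, LinearMap.neg_apply, Module.End.one_apply]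

end Cfsg.Agent.Lib.Helper5.PGBC
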