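import Mathlib

/-!
Arithmetic for the case `{2, s}` with full support.
-/

set_option autoImplicit false

namespace Cfsg.Agent.Lib.Helper5.PGBC

theorem arith_c_int {Y s f m : ℤ} (hY : Odd Y) (hs : Prime s) (hsodd : Odd s)
    (hf : f = 0 ∨ f = 2) (hm : 4 * m + f = Y * Y + Y) (hsf : s ∣ Y * Y + Y - f)
    (hs1 : s ∣ Y * Y - 1) : 4 * s ∣ Y - 1 ∨ 4 * s ∣ Y + 1 := by
  have hcop4s : IsCoprime (4 : ℤ) s := by
    have h2 : IsCoprime (2 : ℤ) s := by
      obtain ⟨k, hk⟩ := hsodd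
      exact ⟨-k, 1, by rw [hk]; ring⟩
    have : (4 : ℤ) = 2 * 2 := by norm_num
    rw [this]
    exact IsCoprime.mul_left h2 h2
  rcases hf with rfl | rfl
  · right
    have h4 : (4 : ℤ) ∣ Y * (Y + 1) := ⟨m, by linear_combination -hm⟩
    have hc4 : IsCoprime (4 : ℤ) Y := by
      obtain ⟨k, hk⟩ := hY
      have h2 : IsCoprime (2 : ℤ) Y := ⟨-k, 1, by rw [hk]; ring⟩
      have : (4 : ℤ) = 2 * 2 := by norm_num
      rw [this]
      exact IsCoprime.mul_left h2 h2
    have h4' : (4 : ℤ) ∣ Y + 1 := hc4.dvd_of_dvd_mul_left h4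
    have hs' : s ∣ Y * (Y + 1) := by
      have : Y * (Y + 1) = Y * Y + Y - 0 := by ring
      rw [this]
      exact hsf
    have hcs : IsCoprime s Y := by
      obtain ⟨k, hk⟩ := hs1
      exact ⟨-k, Y, by linear_combination hk⟩
    have hs'' : s ∣ Y + 1 := hcs.dvd_of_dvd_mul_left hs'
    exact hcop4s.mul_dvd h4' hs''
  · left
    have h4 : (4 : ℤ) ∣ (Y + 2) * (Y - 1) := ⟨m, by linear_combination -hm⟩
    have hc4 : IsCoprime (4 : ℤ) (Y + 2) := by
      obtain ⟨k, hk⟩ := hY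
      have h2 : IsCoprime (2 : ℤ) (Y + 2) := ⟨-k - 1, 1, by rw [hk]; ring⟩
      have : (4 : ℤ) = 2 * 2 := by norm_num
      rw [this]
      exact IsCoprime.mul_left h2 h2
    have h4' : (4 : ℤ) ∣ Y - 1 := hc4.dvd_of_dvd_mul_left h4
    have hs' : s ∣ (Y - 1) * (Y + 2) := by
      have : (Y - 1) * (Y + 2) = Y * Y + Y - 2 := by ring
      rw [this]
      exact hsf
    have hs2 : s ∣ (Y - 1) * (Y + 1) := by
      have : (Y - 1) * (Y + 1) = Y * Y - 1 := by ring
      rw [this]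
      exact hs1
    have hs'' : s ∣ Y - 1 := by
      rcases hs.dvd_or_dvd hs' with h | h
      · exact h
      · rcases hs.dvd_or_dvd hs2 with h' | h'
        · exact h'
        · exfalso
          have h1 : s ∣ 1 := by
            have : (1 : ℤ) = (Y + 2) - (Y + 1) := by ring
            rw [this]
            exact dvd_sub h h'
          exact hs.not_unit (isUnit_of_dvd_one h1)
    exact hcop4s.mul_dvd h4' hs''

theorem arith_c {Y s f m : ℕ} (hY : Odd Y) (hs : s.Prime) (hsodd : Odd s)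
    (hf : f = 0 ∨ f = 2) (hm : 4 * m + f = Y * Y + Y) (hsf : f ≡ Y * Y + Y [MOD s])
    (hs1 : s ∣ Y * Y - 1) : 4 * s ∣ Y - 1 ∨ 4 * s ∣ Y + 1 := by
  have hY1 : 1 ≤ Y := by
    obtain ⟨k, hk⟩ := hY
    omega
  have hYY : 1 ≤ Y * Y := Nat.mul_pos hY1 hY1
  have h := arith_c_int (Y := (Y : ℤ)) (s := (s : ℤ)) (f := (f : ℤ)) (m := (m : ℤ))
    (by exact_mod_cast hY) (Nat.prime_iff_prime_int.1 hs) (by exact_mod_cast hsodd)
    (by rcases hf with h | h <;> [left; right] <;> exact_mod_cast h)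
    (by exact_mod_cast hm)
    (by
      have := (Nat.modEq_iff_dvd.1 hsf)
      push_cast at this
      exact this)
    (by
      have : ((Y * Y - 1 : ℕ) : ℤ) = (Y : ℤ) * Y - 1 := by
        rw [Nat.cast_sub hYY]
        push_cast
        ring
      rw [← this]
      exact_mod_cast hs1)
  rcases h with h | h
  · left
    have : ((4 * s : ℕ) : ℤ) ∣ ((Y - 1 : ℕ) : ℤ) := by
      rw [Nat.cast_sub hY1]
      push_cast
      exact h
    exact_mod_cast this
  · right
    have : ((4 * s : ℕ) : ℤ) ∣ ((Y + 1 : ℕ) : ℤ) := by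
      push_cast
      exact h
    exact_mod_cast this

end Cfsg.Agent.Lib.Helper5.PGBC
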