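import Mathlib
import Cfsg.Agent.Lib.Helper5.PGBC.CaseCSp

/-!
The case `{2, s}`: from `Ω_{2n+1}` to `PSp_{2n}`, abstract part.
-/

set_option autoImplicit false

namespace Cfsg.Agent.Lib.Helper5.PGBC

open Module QuadraticMap Cfsg.Agent.Lib.Helper5.SpecBC

variable {F : Type*} [Field F] [Fintype F] {V : Type*} [AddCommGroup V] [Module F V]
  [FiniteDimensional F V]

omit [Fintype F] in
theorem decomp_of_isCompl' {x : Module.End F V} {m : ℕ} (hm : x ^ m = 1) (hmF : (m : F) ≠ 0)
    (v : V) : ∃ a ∈ fixS x, ∃ b ∈ movS x, a + b = v := by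
  have hc := isCompl_fix_mov hm hmF
  have hz : v ∈ fixS x ⊔ movS x := by rw [hc.sup_eq_top]; trivial
  exact Submodule.mem_sup.1 hz

variable (Q : QuadraticForm F V) (hQ : (polarBilin Q).Nondegenerate)

include hQ

omit [Fintype F] in
/-- a one-dimensional fixed space is spanned by a nonsingular vector -/
theorem fix_one_dim (h2 : (2 : F) ≠ 0) {x t : Module.End F V} (hx : QIso Q x) (ht : QIso Q t)
    (hct : Commute x t) {s : ℕ} (hxs : x ^ s = 1) (hsF : (s : F) ≠ 0)
    (h1 : finrank F ↥(fixS x) = 1) :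
    ∃ z ∈ fixS x, Q z ≠ 0 ∧ (∀ a ∈ fixS x, ∃ c : F, a = c • z) ∧ (t z = z ∨ t z = -z) := by
  obtain ⟨z₀, hz₀, hspan⟩ := finrank_eq_one_iff'.1 h1
  have hspan' : ∀ a ∈ fixS x, ∃ c : F, a = c • (z₀ : V) := by
    intro a ha
    obtain ⟨c, hc⟩ := hspan ⟨a, ha⟩
    refine ⟨c, ?_⟩
    have := congrArg Subtype.val hc
    simpa using this.symm
  have hz0 : (z₀ : V) ≠ 0 := fun h => hz₀ (Subtype.ext h)
  have hQz : Q (z₀ : V) ≠ 0 := by
    intro h0
    apply hz0
    apply hQ.1
    intro v
    obtain ⟨a, ha, w, hw, rfl⟩ := decomp_of_isCompl' hxs hsF v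
    obtain ⟨c, rfl⟩ := hspan' a ha
    rw [map_add, bil_fix_mov hx.pres z₀.2 hw, add_zero, map_smul, polarBilin_apply_apply,
      polar_self, h0]
    simp
  refine ⟨z₀, z₀.2, hQz, hspan', ?_⟩
  obtain ⟨c, hc⟩ := hspan' (t z₀) (map_mem_fixS hct.symm z₀.2)
  have h3 : Q (t (z₀ : V)) = Q (z₀ : V) := ht _
  rw [hc, QuadraticMap.map_smul, smul_eq_mul] at h3
  have h4 : (c * c - 1) * Q (z₀ : V) = 0 := by linear_combination h3
  rcases mul_eq_zero.1 h4 with h5 | h5
  · have h6 : (c - 1) * (c + 1) = 0 := by linear_combination h5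
    rcases mul_eq_zero.1 h6 with h7 | h7
    · left
      rw [hc, sub_eq_zero.1 h7, one_smul]
    · right
      rw [hc, eq_neg_of_add_eq_zero_left h7, neg_smul, one_smul]
  · exact absurd h5 hQz

theorem caseC_o_abs (p : ℕ) [hp : Fact p.Prime] [CharP F p] (h2 : (2 : F) ≠ 0) {n : ℕ}
    (hn : 1 ≤ n) (hdim : finrank F V = 2 * n + 1)
    {x t : Module.End F V} (hx : QIso Q x) (ht : QIso Q t) (hct : Commute x t)
    (htt : t * t = 1) (ht1 : t ≠ 1) {s : ℕ} (hs : s.Prime) (hsodd : Odd s) (hsF : (s : F) ≠ 0)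
    (hxord : ∀ j : ℕ, x ^ j = 1 ↔ s ∣ j) (H1 : t ≠ -1)
    (H2 : ∀ z, Q z ≠ 0 → t z = -z → ¬ (∀ w, polar Q z w = 0 → t w = w)) :
    2 * s ∈ Set.range (orderOf : Cfsg.PSp n F → ℕ) ∨
      (finrank F ↥(fixS x) = 1 ∧ (∀ w ∈ movS x, t w = -w) ∧ (∀ a ∈ fixS x, t a = a)) := by
  have hxs : x ^ s = 1 := (hxord s).2 dvd_rfl
  by_cases hsmall : finrank F ↥(movS x) + 2 ≤ 2 * n
  · left
    exact (small_o_to_sp Q hQ p h2 hn hx hs hsodd hsF hxord hsmall).2
  have hev := even_finrank_movS_orth h2 Q hQ hx hxs hsodd hsF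
  have hsum := finrank_fix_add_mov x
  have hmov : finrank F ↥(movS x) = 2 * n := by
    obtain ⟨k, hk⟩ := hev
    omega
  have hfix : finrank F ↥(fixS x) = 1 := by omega
  obtain ⟨z, hz, hQz, hspan, htz⟩ := fix_one_dim Q hQ h2 hx ht hct hxs hsF hfix
  have hdisj := disjoint_fix_mov hxs hsF
  set y := xp x t with hydef
  have hy : QIso Q y := xp_qiso h2 hx ht htt hct
  have hys : y ^ s = 1 := by
    rw [xp_pow h2 htt hct, hxs]
    unfold xp
    rw [sub_self, zero_mul, add_zero]
  by_cases hy1 : y = 1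
  · right
    have hfixt : ∀ a, t a = a → x a = a := (xp_eq_one_iff h2 htt).1 hy1
    have hneg : ∀ w ∈ movS x, t w = -w := by
      intro w hw
      have h3 : t (w + t w) = w + t w := by
        rw [map_add, ← Module.End.mul_apply, htt, Module.End.one_apply, add_comm]
      have h4 : w + t w ∈ fixS x := mem_fixS.2 (hfixt _ h3)
      have h5 : w + t w ∈ movS x := Submodule.add_mem _ hw (map_mem_movS hct.symm hw)
      have h6 := (Submodule.disjoint_def.1 hdisj) _ h4 h5
      exact eq_neg_of_add_eq_zero_right h6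
    refine ⟨hfix, hneg, ?_⟩
    rcases htz with htz | htz
    · intro a ha
      obtain ⟨c, rfl⟩ := hspan a ha
      rw [map_smul, htz]
    · exfalso
      apply H1
      apply ext_fix_mov hxs hsF
      · intro a ha
        obtain ⟨c, rfl⟩ := hspan a ha
        rw [map_smul, htz]
        simp
      · intro w hw
        rw [hneg w hw]
        rfl
  · left
    have hyord : ∀ j : ℕ, y ^ j = 1 ↔ s ∣ j := pow_eq_one_iff_prime hs hys hy1
    have hysmall : finrank F ↥(movS y) + 2 ≤ 2 * n := by
      by_contra hnot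
      have hev' := even_finrank_movS_orth h2 Q hQ hy hys hsodd hsF
      have hle' : movS y ≤ movS x := le_trans (movS_xp_le htt hct) inf_le_left
      have h3 := Submodule.finrank_mono hle'
      have h4 : finrank F ↥(movS y) = finrank F ↥(movS x) := by
        obtain ⟨k, hk⟩ := hev'
        omega
      have h5 : movS y = movS x := Submodule.eq_of_le_of_finrank_eq hle' h4
      have h6 : ∀ w ∈ movS x, t w = w := by
        intro w hw
        rw [← h5] at hw
        exact mem_fixS.1 ((movS_xp_le htt hct) hw).2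
      rcases htz with htz | htz
      · apply ht1
        apply ext_fix_mov hxs hsF
        · intro a ha
          obtain ⟨c, rfl⟩ := hspan a ha
          rw [map_smul, htz]
          rfl
        · intro w hw
          rw [h6 w hw]
          rfl
      · apply H2 z hQz htz
        intro w hw
        obtain ⟨a, ha, w', hw', rfl⟩ := decomp_of_isCompl' hxs hsF w
        obtain ⟨c, rfl⟩ := hspan a ha
        have h7 : polar Q z w' = 0 := by
          have := bil_fix_mov hx.pres hz hw'
          rwa [polarBilin_apply_apply] at this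
        rw [polar_add_right, h7, add_zero, polar_smul_right, polar_self, smul_eq_mul] at hw
        have hc0 : c = 0 := by
          rcases mul_eq_zero.1 hw with h8 | h8
          · exact h8
          · exfalso
            rw [two_smul, ← two_mul] at h8
            rcases mul_eq_zero.1 h8 with h9 | h9
            · exact h2 h9
            · exact hQz h9
        rw [hc0, zero_smul, zero_add, h6 w' hw']
    exact (small_o_to_sp Q hQ p h2 hn hy hs hsodd hsF hyord hysmall).2

end Cfsg.Agent.Lib.Helper5.PGBC
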