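import Mathlib
import Cfsg.Agent.Lib.Helper5.PGBC.Arith2
import Cfsg.Agent.Lib.Helper5.PGBC.CaseCO
import Cfsg.Agent.Lib.Helper5.SpecBC.Wrap1
import Cfsg.Agent.Lib.Helper5.SpecBC.CntX
import Cfsg.Agent.Lib.Helper5.SpecBC.Core2
import Cfsg.Agent.Lib.Lead.S2362a

/-!
The case `{2, s}` with full support: the involution `-1 ⊕ 1` lies in `Ω` only under an
arithmetic condition.
-/

set_option autoImplicit false
set_option maxHeartbeats 1000000

namespace Cfsg.Agent.Lib.Helper5.PGBC

open Module QuadraticMap Cfsg.Agent.Lib.Helper5.SpecBC Cfsg.Agent.Lib.Helper2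
  Cfsg.Agent.Lib.Helper2.CDG

variable {F : Type*} [Field F] [Fintype F]

theorem arith_of_case_c (hodd : Odd (Fintype.card F)) (n : ℕ) (hn : 1 ≤ n)
    (Q : QuadraticForm F (Unit ⊕ (Fin n ⊕ Fin n) → F))
    (hQc : ∀ v, Q v = Cfsg.quadFormOdd n F v) (hQ : (polarBilin Q).Nondegenerate)
    (gx gt : ↥(Cfsg.isometryGroup F ⇑Q)) (hgt : gt ∈ commutator ↥(Cfsg.isometryGroup F ⇑Q))
    (hgt2 : gt ^ 2 = 1) {s : ℕ} (hs : s.Prime) (hsodd : Odd s) (hsF : (s : F) ≠ 0)
    (hxs : lin gx ^ s = 1) (hfix : finrank F ↥(fixS (lin gx)) = 1)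
    (hneg : ∀ w ∈ movS (lin gx), lin gt w = -w) (hpos : ∀ a ∈ fixS (lin gx), lin gt a = a) :
    4 * s ∣ Fintype.card F ^ n - 1 ∨ 4 * s ∣ Fintype.card F ^ n + 1 := by
  classical
  have h2 : (2 : F) ≠ 0 := two_ne_zero_of_odd_card hodd
  set q := Fintype.card F with hq
  set x := lin gx with hxdef
  set t := lin gt with htdef
  have hcard : Fintype.card (Unit ⊕ (Fin n ⊕ Fin n)) = 2 * n + 1 := by
    simp only [Fintype.card_sum, Fintype.card_unit, Fintype.card_fin]
    ring
  obtain ⟨-, hsign⟩ := det_and_sign_of_mem h2 hQ (by rw [hcard]; omega) hgt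
  set πt := Spinor.levPerm Q 1 gt with hπt
  set πx := Spinor.levPerm Q 1 gx with hπx
  have hπt_app : ∀ v : {v : Unit ⊕ (Fin n ⊕ Fin n) → F // Q v = 1},
      ((πt v : {v : Unit ⊕ (Fin n ⊕ Fin n) → F // Q v = 1}) : Unit ⊕ (Fin n ⊕ Fin n) → F) =
        t v.1 := by
    intro v
    rw [hπt, Spinor.levPerm_apply, ← lin_apply]
  have hπx_app : ∀ v : {v : Unit ⊕ (Fin n ⊕ Fin n) → F // Q v = 1},
      ((πx v : {v : Unit ⊕ (Fin n ⊕ Fin n) → F // Q v = 1}) : Unit ⊕ (Fin n ⊕ Fin n) → F) =
        x v.1 := by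
    intro v
    rw [hπx, Spinor.levPerm_apply, ← lin_apply]
  have hfixt : ∀ v : {v : Unit ⊕ (Fin n ⊕ Fin n) → F // Q v = 1}, πt v = v ↔ v.1 ∈ fixS x := by
    intro v
    constructor
    · intro h
      have h3 : t v.1 = v.1 := by rw [← hπt_app, h]
      obtain ⟨a, ha, w, hw, hav⟩ := decomp_of_isCompl' hxs hsF v.1
      rw [← hav, map_add, hpos a ha, hneg w hw] at h3
      have h4 : -w = w := add_left_cancel h3
      have hw0 : w = 0 := by
        have h5 : (2 : F) • w = 0 := by
          rw [two_smul]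
          nth_rewrite 1 [← h4]
          exact neg_add_cancel w
        rcases smul_eq_zero.1 h5 with h6 | h6
        · exact absurd h6 h2
        · exact h6
      rw [← hav, hw0, add_zero]
      exact ha
    · intro h
      apply Subtype.ext
      rw [hπt_app, hpos _ h]
  have hfixx : ∀ v : {v : Unit ⊕ (Fin n ⊕ Fin n) → F // Q v = 1}, πx v = v ↔ v.1 ∈ fixS x := by
    intro v
    rw [Subtype.ext_iff, hπx_app, mem_fixS]
  set Fx := Finset.univ.filter
    (fun v : {v : Unit ⊕ (Fin n ⊕ Fin n) → F // Q v = 1} => v.1 ∈ fixS x) with hFx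
  -- the involution
  have hπt2 : πt ^ 2 = 1 := by rw [hπt, ← map_pow, hgt2, map_one]
  have hfree : ∀ v, πt v ≠ v → ∀ j : ℕ, (πt ^ j) v = v → 2 ∣ j := by
    intro v hv j hj
    by_contra hnd
    have hjodd : Odd j := Nat.odd_iff.2 (by omega)
    obtain ⟨k, rfl⟩ := hjodd
    rw [pow_succ, pow_mul, hπt2, one_pow, one_mul] at hj
    exact hv hj
  obtain ⟨m, hm, hsgn⟩ :=
    Cfsg.Agent.Lib.Lead.S2362a.sign_of_uniform_cycles πt 2 even_two two_pos hπt2 hfree
  have hfilt_t : Finset.univ.filter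
      (fun v : {v : Unit ⊕ (Fin n ⊕ Fin n) → F // Q v = 1} => πt v = v) = Fx :=
    Finset.filter_congr (fun v _ => hfixt v)
  rw [hfilt_t] at hm
  have hmeven : Even m := by
    rw [hsgn] at hsign
    exact (neg_one_pow_eq_one_iff_even (by decide)).1 hsign
  -- the element of order `s`
  have : Fact s.Prime := ⟨hs⟩
  have hgxs : gx ^ s = 1 := by
    apply lin_injective
    rw [lin_pow, lin_one]
    exact hxs
  have hπxs : πx ^ s ^ 1 = 1 := by rw [pow_one, hπx, ← map_pow, hgxs, map_one]
  have hmod := Equiv.Perm.card_compl_support_modEq hπxs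
  have hsupp : πx.supportᶜ = Fx := by
    ext v
    rw [Finset.mem_compl, Equiv.Perm.mem_support, not_not, hFx, Finset.mem_filter, hfixx]
    simp
  rw [hsupp] at hmod
  have hcardX : Fintype.card {v : Unit ⊕ (Fin n ⊕ Fin n) → F // Q v = 1} =
      q ^ (2 * n) + q ^ n := by
    rw [← Nat.card_eq_fintype_card, ← card_level_odd hodd n]
    exact Nat.card_congr (Equiv.subtypeEquivRight (fun v => by rw [hQc v]))
  -- the number of fixed points
  have hF02 : Fx.card = 0 ∨ Fx.card = 2 := by
    rcases Finset.eq_empty_or_nonempty Fx with h | ⟨v₀, hv₀⟩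
    · left
      rw [h]
      rfl
    · right
      rw [hFx, Finset.mem_filter] at hv₀
      have hv₀fix := hv₀.2
      have hv₀ne : v₀.1 ≠ 0 := by
        intro h
        have := v₀.2
        rw [h, map_zero] at this
        exact zero_ne_one this
      let v₁ : {v : Unit ⊕ (Fin n ⊕ Fin n) → F // Q v = 1} :=
        ⟨-v₀.1, by rw [QuadraticMap.map_neg]; exact v₀.2⟩
      have hne : v₀ ≠ v₁ := by
        intro h
        have h3 : v₀.1 = -v₀.1 := congrArg Subtype.val h
        have h5 : (2 : F) • v₀.1 = 0 := by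
          rw [two_smul]
          nth_rewrite 1 [h3]
          exact neg_add_cancel v₀.1
        rcases smul_eq_zero.1 h5 with h6 | h6
        · exact absurd h6 h2
        · exact hv₀ne h6
      have hpair : Fx = {v₀, v₁} := by
        ext v
        rw [hFx, Finset.mem_filter, Finset.mem_insert, Finset.mem_singleton]
        constructor
        · rintro ⟨-, hv⟩
          obtain ⟨c, hc⟩ := (finrank_eq_one_iff_of_nonzero' (⟨v₀.1, hv₀fix⟩ : ↥(fixS x))
            (fun h => hv₀ne (congrArg Subtype.val h))).1 hfix ⟨v.1, hv⟩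
          have hcv : v.1 = c • v₀.1 := by
            have := congrArg Subtype.val hc
            simpa using this.symm
          have hQ1 : c * c = 1 := by
            have := v.2
            rw [hcv, QuadraticMap.map_smul, v₀.2] at this
            simpa using this
          rcases mul_self_eq_one_iff.1 hQ1 with h | h
          · left
            apply Subtype.ext
            rw [hcv, h, one_smul]
          · right
            apply Subtype.ext
            rw [hcv, h, neg_one_smul]
        · rintro (rfl | rfl)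
          · exact ⟨Finset.mem_univ _, hv₀fix⟩
          · exact ⟨Finset.mem_univ _, (fixS x).neg_mem hv₀fix⟩
      rw [hpair, Finset.card_pair hne]
  -- `s` divides `q^(2n) - 1`
  have hsum := finrank_fix_add_mov x
  have hdimV : finrank F (Unit ⊕ (Fin n ⊕ Fin n) → F) = 2 * n + 1 := by
    rw [Module.finrank_fintype_fun_eq_card, hcard]
  have hmov : finrank F ↥(movS x) = 2 * n := by omega
  have hdiv := dvd_card_sub_one hs hxs hsF (movS x) le_rfl
    (fun v hv => map_mem_movS (Commute.refl x) hv)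
  rw [hmov] at hdiv
  -- arithmetic
  obtain ⟨m', hm'⟩ := hmeven
  have hq2n : q ^ (2 * n) = q ^ n * q ^ n := by rw [two_mul, pow_add]
  apply arith_c (Y := q ^ n) (f := Fx.card) (m := m') hodd.pow hs hsodd hF02
  · rw [← hq2n, ← hcardX, ← hm, hm']
    ring
  · rw [← hq2n, ← hcardX]
    exact hmod
  · rw [← hq2n]
    exact hdiv

end Cfsg.Agent.Lib.Helper5.PGBC
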