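import Mathlib
import Cfsg.Agent.Lib.Helper5.PGBC.SignC
import Cfsg.Agent.Lib.Helper5.PGBC.Torus
import Cfsg.Agent.Lib.Helper5.PGBC.Concrete

/-!
The case `{2, s}` of the comparison of prime graphs.
-/

set_option autoImplicit false
set_option maxHeartbeats 1000000

namespace Cfsg.Agent.Lib.Helper5.PGBC

open Module QuadraticMap Cfsg.Agent.Lib.Helper5.SpecBC Cfsg.Agent.Lib.Helper2
  Cfsg.Agent.Lib.Helper2.CDG Cfsg.Agent.Lib.Helper2.SpIsom

variable {F : Type*} [Field F] [Fintype F]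

/-- an element of `Ω` in odd dimension is not `-1` -/
theorem lin_ne_neg_one [DecidableEq F] (h2 : (2 : F) ≠ 0) {n : ℕ} (hn : 1 ≤ n)
    {Q : QuadraticForm F (Unit ⊕ (Fin n ⊕ Fin n) → F)} (hQ : (polarBilin Q).Nondegenerate)
    {g : ↥(Cfsg.isometryGroup F ⇑Q)} (hg : g ∈ commutator ↥(Cfsg.isometryGroup F ⇑Q)) :
    lin g ≠ -1 := by
  intro h
  have hcard : Fintype.card (Unit ⊕ (Fin n ⊕ Fin n)) = 2 * n + 1 := by
    simp only [Fintype.card_sum, Fintype.card_unit, Fintype.card_fin]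
    ring
  have hdet := (det_and_sign_of_mem h2 hQ (by rw [hcard]; omega) hg).1
  have hmat : ((g : Matrix.GeneralLinearGroup (Unit ⊕ (Fin n ⊕ Fin n)) F) :
      Matrix (Unit ⊕ (Fin n ⊕ Fin n)) (Unit ⊕ (Fin n ⊕ Fin n)) F) = -1 := by
    apply Matrix.toLin'.injective
    rw [map_neg, Matrix.toLin'_one]
    exact h
  rw [hmat, Matrix.det_neg, Matrix.det_one, mul_one, hcard, Odd.neg_one_pow ⟨n, rfl⟩] at hdet
  apply h2
  linear_combination -hdet

/-- an element of `Ω` is not a reflection -/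
theorem lin_ne_refl [DecidableEq F] (h2 : (2 : F) ≠ 0) {n : ℕ} (hn : 1 ≤ n)
    {Q : QuadraticForm F (Unit ⊕ (Fin n ⊕ Fin n) → F)} (hQ : (polarBilin Q).Nondegenerate)
    {g : ↥(Cfsg.isometryGroup F ⇑Q)} (hg : g ∈ commutator ↥(Cfsg.isometryGroup F ⇑Q))
    (z : Unit ⊕ (Fin n ⊕ Fin n) → F) (hQz : Q z ≠ 0) (hz : lin g z = -z) :
    ¬ (∀ w, polar Q z w = 0 → lin g w = w) := by
  intro hw
  have hcard : Fintype.card (Unit ⊕ (Fin n ⊕ Fin n)) = 2 * n + 1 := by
    simp only [Fintype.card_sum, Fintype.card_unit, Fintype.card_fin]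
    ring
  have hdet := (det_and_sign_of_mem h2 hQ (by rw [hcard]; omega) hg).1
  have heq : g = refl Q z hQz := by
    apply iso_ext
    intro v
    rw [refl_mulVec, ← lin_apply]
    have hzz : polar Q z z = 2 * Q z := by
      rw [polar_self, two_smul, two_mul]
    set c := polar Q z v / (2 * Q z) with hc
    have h2Q : (2 : F) * Q z ≠ 0 := mul_ne_zero h2 hQz
    have hperp : polar Q z (v - c • z) = 0 := by
      rw [polar_sub_right, polar_smul_right, hzz, smul_eq_mul, hc, div_mul_cancel₀ _ h2Q, sub_self]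
    have hv : v = c • z + (v - c • z) := by abel
    conv_lhs => rw [hv, map_add, map_smul, hz, hw _ hperp]
    have h5 : (Q z)⁻¹ * polar Q z v = 2 * c := by
      rw [hc]
      field_simp
    rw [h5, smul_neg, mul_smul, two_smul F (c • z)]
    abel
  rw [heq, det_refl] at hdet
  apply h2
  linear_combination -hdet

theorem caseC_o_to_psp (p : ℕ) [hp : Fact p.Prime] [CharP F p] (hodd : Odd (Fintype.card F))
    (n : ℕ) (hn : 3 ≤ n) {s : ℕ} (hs : s.Prime) (hsodd : Odd s) (hsF : (s : F) ≠ 0)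
    (h : 2 * s ∈ Set.range (orderOf : Cfsg.POmega F (Cfsg.quadFormOdd n F) → ℕ)) :
    2 * s ∈ Set.range (orderOf : Cfsg.PSp n F → ℕ) := by
  classical
  have h2 : (2 : F) ≠ 0 := two_ne_zero_of_odd_card hodd
  obtain ⟨g, hgΩ, hg⟩ := exists_omega_of_pomega hodd n hn h
  have hQ := OrthCard.QOd_nondeg (F := F) h2 n
  have hs3 : 3 ≤ s := by
    have := hs.two_le
    obtain ⟨l, hl⟩ := hsodd
    omega
  set gx := g ^ 2 with hgx
  set gt := g ^ s with hgt
  have hgtΩ : gt ∈ commutator ↥(Cfsg.isometryGroup F ⇑(OrthCard.QOd n F)) :=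
    Subgroup.pow_mem _ hgΩ s
  have hgt2 : gt ^ 2 = 1 := by
    rw [hgt, ← pow_mul, mul_comm, ← hg, pow_orderOf_eq_one]
  have hxord : ∀ j : ℕ, lin gx ^ j = 1 ↔ s ∣ j := by
    intro j
    rw [lin_pow_eq_one_iff, hgx, ← orderOf_dvd_iff_pow_eq_one.symm, ← pow_mul,
      orderOf_dvd_iff_pow_eq_one.symm, hg]
    exact Nat.mul_dvd_mul_iff_left (by norm_num)
  have hct : Commute (lin gx) (lin gt) := lin_commute ((Commute.refl g).pow_pow 2 s)
  have htt : lin gt * lin gt = 1 := by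
    rw [← lin_mul, ← pow_two, hgt2, lin_one]
  have ht1 : lin gt ≠ 1 := by
    intro h1
    have h3 := (lin_pow_eq_one_iff gt 1).1 (by rw [pow_one]; exact h1)
    have h4 : gt = 1 := by
      have := orderOf_dvd_iff_pow_eq_one.1 h3
      rwa [pow_one] at this
    rw [hgt, ← orderOf_dvd_iff_pow_eq_one, hg] at h4
    have := Nat.le_of_dvd (by omega) h4
    omega
  rcases caseC_o_abs (OrthCard.QOd n F) hQ p h2 (by omega) (finrank_odd_space n) (lin_qiso gx)
    (lin_qiso gt) hct htt ht1 hs hsodd hsF hxord (lin_ne_neg_one h2 (by omega) hQ hgtΩ)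
    (fun z hQz hz => lin_ne_refl h2 (by omega) hQ hgtΩ z hQz hz) with hdone | ⟨hfix, hneg, hpos⟩
  · exact hdone
  · have harith := arith_of_case_c hodd n (by omega) (OrthCard.QOd n F)
      (fun v => congrFun (OrthCard.QOd_coe n) v) hQ gx gt hgtΩ hgt2 hs hsodd hsF
      ((hxord s).2 dvd_rfl) hfix hneg hpos
    rcases harith with h4 | h4
    · exact psp_torus_split p n (by omega) hs.pos h4
    · exact psp_torus_nonsplit p n (by omega) hs.pos h4

theorem caseC_psp_to_o (p : ℕ) [hp : Fact p.Prime] [CharP F p] (hodd : Odd (Fintype.card F))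
    (n : ℕ) (hn : 3 ≤ n) {s : ℕ} (hs : s.Prime) (hsodd : Odd s) (hsF : (s : F) ≠ 0)
    (h : 2 * s ∈ Set.range (orderOf : Cfsg.PSp n F → ℕ)) :
    2 * s ∈ Set.range (orderOf : Cfsg.POmega F (Cfsg.quadFormOdd n F) → ℕ) := by
  obtain ⟨g, hg⟩ := exists_sp_of_psp (by omega) h
  apply caseC_sp_abs (sympBilin n F) sympBilin_isAlt sympBilin_nondeg' p hodd hn
    (finrank_sp_space n) (slin_pres g) hs hsodd hsF
  intro j
  rw [← hg j, ← slin_pow, slin_eq_one_iff, slin_eq_neg_one_iff]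

theorem caseC (p : ℕ) [hp : Fact p.Prime] [CharP F p] (hodd : Odd (Fintype.card F))
    (n : ℕ) (hn : 3 ≤ n) {s : ℕ} (hs : s.Prime) (hsodd : Odd s) (hsF : (s : F) ≠ 0) :
    2 * s ∈ Set.range (orderOf : Cfsg.POmega F (Cfsg.quadFormOdd n F) → ℕ) ↔
      2 * s ∈ Set.range (orderOf : Cfsg.PSp n F → ℕ) :=
  ⟨caseC_o_to_psp p hodd n hn hs hsodd hsF, caseC_psp_to_o p hodd n hn hs hsodd hsF⟩

end Cfsg.Agent.Lib.Helper5.PGBC
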