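import Mathlib
import Cfsg.Agent.Lib.Helper5.PGBC.CaseC

/-!
`PΩ_{2n+1}(q)` and `PSp_{2n}(q)` have the same prime graph (`q` odd, `n ≥ 3`).
-/

set_option autoImplicit false

namespace Cfsg.Agent.Lib.Helper5.PGBC

open Cfsg.Agent.Lib.Helper5.SpecBC

variable {F : Type*} [Field F] [Fintype F]

theorem prime_graph_bc (hodd : Odd (Fintype.card F)) (n : ℕ) (hn : 3 ≤ n) (r s : ℕ)
    (hr : r.Prime) (hs : s.Prime) (hrs : r ≠ s) :
    (r * s ∈ Set.range (orderOf : Cfsg.POmega F (Cfsg.quadFormOdd n F) → ℕ)) ↔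
      (r * s ∈ Set.range (orderOf : Cfsg.PSp n F → ℕ)) := by
  obtain ⟨p, hp⟩ := CharP.exists F
  have : Fact p.Prime := ⟨CharP.char_is_prime F p⟩
  have h2 : (2 : F) ≠ 0 := two_ne_zero_of_odd_card hodd
  have hp2 : p ≠ 2 := by
    rintro rfl
    apply h2
    have := CharP.cast_eq_zero F 2
    exact_mod_cast this
  have hcast : ∀ {m : ℕ}, m.Prime → m ≠ p → (m : F) ≠ 0 := by
    intro m hm hmp h0
    have h3 : p ∣ m := (CharP.cast_eq_zero_iff F p m).1 h0
    rcases (Nat.dvd_prime hm).1 h3 with h4 | h4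
    · exact (CharP.char_is_prime F p).one_lt.ne' h4
    · exact hmp h4.symm
  have hoddp : ∀ {m : ℕ}, m.Prime → m ≠ 2 → Odd m := by
    intro m hm hm2
    rcases hm.eq_two_or_odd' with h | h
    · exact absurd h hm2
    · exact h
  -- a symmetric auxiliary statement
  have key : ∀ a b : ℕ, a.Prime → b.Prime → a ≠ b → (a = 2 ∨ (b ≠ 2 ∧ (a = p ∨ b ≠ p))) →
      ((a * b ∈ Set.range (orderOf : Cfsg.POmega F (Cfsg.quadFormOdd n F) → ℕ)) ↔
        (a * b ∈ Set.range (orderOf : Cfsg.PSp n F → ℕ))) := by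
    intro a b ha hb hab hcase
    rcases hcase with rfl | ⟨hb2, hcase⟩
    · -- a = 2
      by_cases hbp : b = p
      · subst hbp
        have := caseD b hodd n hn
        exact ⟨fun _ => this.2, fun _ => this.1⟩
      · exact caseC p hodd n hn hb (hoddp hb (Ne.symm hab)) (hcast hb hbp)
    · by_cases ha2 : a = 2
      · subst ha2
        by_cases hbp : b = p
        · subst hbp
          have := caseD b hodd n hn
          exact ⟨fun _ => this.2, fun _ => this.1⟩
        · exact caseC p hodd n hn hb (hoddp hb hb2) (hcast hb hbp)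
      · rcases hcase with rfl | hbp
        · exact caseB a hodd n hn hb (hoddp hb hb2) (hcast hb (Ne.symm hab))
        · by_cases hap : a = p
          · subst hap
            exact caseB a hodd n hn hb (hoddp hb hb2) (hcast hb (Ne.symm hab))
          · apply caseA hodd n hn ((hoddp ha ha2).mul (hoddp hb hb2))
            rw [Nat.cast_mul]
            exact mul_ne_zero (hcast ha hap) (hcast hb hbp)
  by_cases hr2 : r = 2
  · exact key r s hr hs hrs (Or.inl hr2)
  by_cases hs2 : s = 2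
  · rw [mul_comm]
    exact key s r hs hr (Ne.symm hrs) (Or.inl hs2)
  by_cases hrp : r = p
  · exact key r s hr hs hrs (Or.inr ⟨hs2, Or.inl hrp⟩)
  by_cases hsp : s = p
  · rw [mul_comm]
    exact key s r hs hr (Ne.symm hrs) (Or.inr ⟨hr2, Or.inl hsp⟩)
  · exact key r s hr hs hrs (Or.inr ⟨hs2, Or.inr hsp⟩)

end Cfsg.Agent.Lib.Helper5.PGBC
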